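import Cfsg.Agent.ZCGroup.Basic
import Cfsg.Agent.Small.StronglyEmbedded
import Cfsg.Agent.Small.ThompsonTransfer
import Cfsg.Agent.Transfer.Residual

/-!
# Strongly embedded subgroups, transfer in `O²(G)`, and normalizers of odd subgroups

* `isStronglyEmbedded_of_centralizer`: a proper subgroup containing a Sylow 2-subgroup `P ≠ 1`,
  its normalizer and the centralizers of the involutions of `P` is strongly embedded.
* `exists_conj_mem`: Thompson's transfer lemma in `O²(G)` for an index-two subgroup of a Sylow.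
* `embedded_or_eq_bot`: the dichotomy for an odd subgroup `W`.
* `centralizer_le_normalizer_mul`: `C(t) ⊆ N(W) O(C(t))` under a linking hypothesis.
-/

set_option autoImplicit false
set_option linter.style.haveILetI false
set_option linter.unusedSectionVars false

namespace CfsgLib.ZCGroup

open Subgroup

variable {G : Type*} [Group G] [Finite G]

/-- An element of 2-power order of `K` is `K`-conjugate into a Sylow 2-subgroup of `K`. -/
theorem exists_conj_mem_sylow {K : Subgroup G} (P : Sylow 2 K) {A : Subgroup G} (hA : IsPGroup 2 A)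
    (hAK : A ≤ K) : ∃ k ∈ K, ∀ a ∈ A, k * a * k⁻¹ ∈ (P : Subgroup K).map K.subtype := by
  haveI : Fact (Nat.Prime 2) := ⟨Nat.prime_two⟩
  obtain ⟨Q, hQ⟩ := (hA.comap_subtype : IsPGroup 2 (A.subgroupOf K)).exists_le_sylow
  obtain ⟨k, hk⟩ := MulAction.exists_smul_eq K Q P
  refine ⟨k, k.2, fun a ha => ?_⟩
  have hm : MulAut.conj k (⟨a, hAK ha⟩ : K) ∈ k • Q := ⟨⟨a, hAK ha⟩, hQ ha, rfl⟩
  rw [hk] at hm
  exact ⟨_, hm, rfl⟩

theorem isPGroup_zpowers_of_orderOf {t : G} (ht : orderOf t = 2) : IsPGroup 2 (zpowers t) :=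
  IsPGroup.of_card (n := 1) (by rw [Nat.card_zpowers, ht, pow_one])

/-- An element centralizing `g⁻¹ x g` yields one centralizing `x`. -/
theorem conj_mem_centralizer {g x y : G} (h : y ∈ centralizer ({x} : Set G)) :
    g * y * g⁻¹ ∈ centralizer ({g * x * g⁻¹} : Set G) := by
  rw [mem_centralizer_singleton_iff] at h ⊢
  calc g * y * g⁻¹ * (g * x * g⁻¹) = g * (y * x) * g⁻¹ := by group
    _ = g * (x * y) * g⁻¹ := by rw [h]
    _ = g * x * g⁻¹ * (g * y * g⁻¹) := by group

/-- A criterion for strong embedding. -/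
theorem isStronglyEmbedded_of_centralizer {M : Subgroup G} (hM : M ≠ ⊤) (P : Sylow 2 G)
    (hP : (P : Subgroup G) ≠ ⊥) (hPM : (P : Subgroup G) ≤ M)
    (hC : ∀ t ∈ (P : Subgroup G), orderOf t = 2 → centralizer ({t} : Set G) ≤ M)
    (hN : normalizer ((P : Subgroup G) : Set G) ≤ M) : Cfsg.IsStronglyEmbedded M := by
  haveI : Fact (Nat.Prime 2) := ⟨Nat.prime_two⟩
  obtain ⟨n, hn⟩ := IsPGroup.iff_card.1 P.isPGroup'
  have hn0 : n ≠ 0 := fun h => hP (eq_bot_of_card_eq _ (by rw [hn, h, pow_zero]))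
  have heven : Even (Nat.card M) :=
    even_iff_two_dvd.2 ((hn ▸ dvd_pow_self 2 hn0).trans (card_dvd_of_le hPM))
  -- every two-subgroup of `M` is conjugate in `M` into `P`
  have hconj : ∀ A : Subgroup G, IsPGroup 2 A → A ≤ M →
      ∃ m ∈ M, ∀ a ∈ A, m * a * m⁻¹ ∈ (P : Subgroup G) := by
    intro A hA hAM
    obtain ⟨m, hm, h⟩ := exists_conj_mem_sylow (P.subtype hPM) hA hAM
    refine ⟨m, hm, fun a ha => ?_⟩
    obtain ⟨y, hy, hy'⟩ := h a ha
    rw [← hy']
    exact hy
  have hCM : ∀ t ∈ M, orderOf t = 2 → centralizer ({t} : Set G) ≤ M := by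
    intro t ht ho c hc
    obtain ⟨m, hm, hmP⟩ := hconj _ (isPGroup_zpowers_of_orderOf ho) (zpowers_le.mpr ht)
    have h1 := hC _ (hmP t (mem_zpowers t)) ((orderOf_conj m t).trans ho)
      (conj_mem_centralizer (g := m) hc)
    have := M.mul_mem (M.mul_mem (M.inv_mem hm) h1) hm
    simpa [mul_assoc] using this
  rw [CfsgLib.Small.isStronglyEmbedded_iff hM heven]
  suffices key : ∀ t ∈ (P : Subgroup G), orderOf t = 2 → ∀ g : G, g⁻¹ * t * g ∈ M → g ∈ M by
    intro t ht ho g hg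
    obtain ⟨m, hm, hmP⟩ := hconj _ (isPGroup_zpowers_of_orderOf ho) (zpowers_le.mpr ht)
    have h1 := key _ (hmP t (mem_zpowers t)) ((orderOf_conj m t).trans ho) (m * g)
      (by rwa [show (m * g)⁻¹ * (m * t * m⁻¹) * (m * g) = g⁻¹ * t * g by group])
    simpa using M.mul_mem (M.inv_mem hm) h1
  intro t htP ho g hg
  obtain ⟨s, hsP, hs, hsc⟩ := CfsgLib.Inv53.exists_orderOf_eq_central P.isPGroup' hP
  have hs' : g⁻¹ * s * g ∈ M := by
    refine hCM _ hg (by have := orderOf_conj g⁻¹ t; rwa [inv_inv, ho] at this) ?_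
    have := conj_mem_centralizer (g := g⁻¹) (x := t) (y := s)
      (mem_centralizer_singleton_iff.mpr (hsc t htP).symm)
    rwa [inv_inv] at this
  have hPg : (P : Subgroup G).map (MulAut.conj g⁻¹).toMonoidHom ≤ M := by
    rintro _ ⟨p, hp, rfl⟩
    refine hCM _ hs' (by have := orderOf_conj g⁻¹ s; rwa [inv_inv, hs] at this) ?_
    have := conj_mem_centralizer (g := g⁻¹) (x := s) (y := p)
      (mem_centralizer_singleton_iff.mpr (hsc p hp))
    rw [inv_inv] at this
    simpa using this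
  obtain ⟨m, hm, hmP⟩ := hconj _ (P.isPGroup'.map _) hPg
  have hmg : m * g⁻¹ ∈ normalizer ((P : Subgroup G) : Set G) := by
    rw [mem_normalizer_iff_map_conj_eq]
    refine eq_of_le_of_card_ge ?_
      (by rw [card_map_of_injective (MulAut.conj (m * g⁻¹)).injective])
    rintro _ ⟨p, hp, rfl⟩
    have := hmP (g⁻¹ * p * g) ⟨p, hp, by simp⟩
    show m * g⁻¹ * p * (m * g⁻¹)⁻¹ ∈ (P : Subgroup G)
    rwa [show m * g⁻¹ * p * (m * g⁻¹)⁻¹ = m * (g⁻¹ * p * g) * m⁻¹ by group]
  have := M.inv_mem (M.mul_mem (M.inv_mem hm) (hN hmg))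
  simpa using this

/-- `O²(G)` has no subgroup of index two. -/
theorem index_ne_two_pResidual (K : Subgroup ↥(Cfsg.pResidual 2 G)) : K.index ≠ 2 := by
  intro h
  haveI : Fact (Nat.Prime 2) := ⟨Nat.prime_two⟩
  haveI : K.Normal := normal_of_index_eq_two h
  have h1 := CfsgLib.Transfer.pResidual_le_of_index_eq_pow (p := 2) K (k := 1)
    (by rw [h, pow_one])
  rw [CfsgLib.Transfer.pResidual_pResidual, top_le_iff] at h1
  rw [h1, index_top] at h
  omega

/-- Thompson transfer: if `B` has index at most two in `R = S ∩ O²(G)`, every involution of `R` is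
conjugate in `O²(G)` into `B`. -/
theorem exists_conj_mem (S : Sylow 2 G) (B : Subgroup G)
    (hB : ∀ a ∈ (S : Subgroup G) ⊓ Cfsg.pResidual 2 G, ∀ b ∈ (S : Subgroup G) ⊓ Cfsg.pResidual 2 G,
      a ∉ B → b ∉ B → a * b ∈ B) {t : G} (ht : t ∈ (S : Subgroup G) ⊓ Cfsg.pResidual 2 G)
    (ho : orderOf t = 2) :
    ∃ h ∈ Cfsg.pResidual 2 G, h⁻¹ * t * h ∈ (S : Subgroup G) ⊓ Cfsg.pResidual 2 G ⊓ B := by
  haveI : Fact (Nat.Prime 2) := ⟨Nat.prime_two⟩
  set H := Cfsg.pResidual 2 G with hH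
  by_cases htB : t ∈ B
  · exact ⟨1, one_mem _, by simpa using And.intro ht htB⟩
  set R := (S : Subgroup G) ⊓ H with hR
  have hidx : ((R ⊓ B).subgroupOf R).index = 2 := by
    rw [index_eq_two_iff]
    refine ⟨⟨t, ht⟩, fun b => ?_⟩
    simp only [mem_subgroupOf, Subgroup.coe_mul, mem_inf]
    by_cases hb : (b : G) ∈ B
    · refine Or.inr ⟨⟨b.2, hb⟩, fun h => htB ?_⟩
      simpa using B.mul_mem (B.inv_mem hb) h.2
    · exact Or.inl ⟨⟨R.mul_mem b.2 ht, hB _ b.2 _ ht hb htB⟩, fun h => hb h.2⟩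
  have hodd : ¬ 2 ∣ R.relIndex H := by
    haveI : H.Normal := inferInstance
    rw [hR, inf_relIndex_right]
    exact CfsgLib.Transfer.not_dvd_relIndex_of_normal S H
  have hM : ((R ⊓ B).subgroupOf H).index % 4 = 2 := by
    have h := relIndex_mul_relIndex (R ⊓ B) R H inf_le_left inf_le_right
    have e1 : (R ⊓ B).relIndex R = 2 := hidx
    rw [e1] at h
    rw [show ((R ⊓ B).subgroupOf H).index = (R ⊓ B).relIndex H from rfl, ← h]
    omega
  obtain ⟨g, hg⟩ := CfsgLib.Small.thompson_transfer index_ne_two_pResidual _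
    (u := ⟨t, ht.2⟩) (by rwa [← Subgroup.orderOf_coe]) hM
  exact ⟨g, g.2, by simpa [mem_subgroupOf] using hg⟩

/-- An odd subgroup normalized by `S`, by `N_H(R)` and by the centralizers of involutions of `R`
is trivial unless `H` has a strongly embedded subgroup. -/
theorem embedded_or_eq_bot (hO' : Cfsg.pPrimeCore 2 G = ⊥) (S : Sylow 2 G)
    (hR : (S : Subgroup G) ⊓ Cfsg.pResidual 2 G ≠ ⊥) {W : Subgroup G} (hW : Odd (Nat.card W))
    (hS : (S : Subgroup G) ≤ normalizer (W : Set G))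
    (hN : ∀ g ∈ Cfsg.pResidual 2 G,
      g ∈ normalizer (((S : Subgroup G) ⊓ Cfsg.pResidual 2 G : Subgroup G) : Set G) →
        g ∈ normalizer (W : Set G))
    (hC : ∀ t ∈ (S : Subgroup G) ⊓ Cfsg.pResidual 2 G, orderOf t = 2 →
      centralizer ({t} : Set G) ≤ normalizer (W : Set G)) :
    (∃ M : Subgroup ↥(Cfsg.pResidual 2 G), Cfsg.IsStronglyEmbedded M) ∨ W = ⊥ := by
  haveI : Fact (Nat.Prime 2) := ⟨Nat.prime_two⟩
  set H := Cfsg.pResidual 2 G with hH
  by_cases hle : H ≤ normalizer (W : Set G)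
  · refine Or.inr ?_
    have htop : normalizer (W : Set G) = ⊤ := top_unique
      ((CfsgLib.Transfer.sylow_sup_pResidual S).ge.trans (sup_le hS hle))
    haveI : W.Normal := normalizer_eq_top_iff.mp htop
    exact le_bot_iff.mp (hO' ▸ CfsgLib.PLocal.le_pPrimeCore (Nat.coprime_two_right.mpr hW))
  refine Or.inl ⟨(normalizer (W : Set G)).subgroupOf H, ?_⟩
  haveI : H.Normal := inferInstance
  have hcard : ¬ 2 ∣ ((S : Subgroup G).subgroupOf H).index :=
    CfsgLib.Transfer.not_dvd_relIndex_of_normal S H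
  have hp : IsPGroup 2 ((S : Subgroup G).subgroupOf H) := S.isPGroup'.comap_subtype
  set P : Sylow 2 H := hp.toSylow hcard with hP
  have hPc : (P : Subgroup H) = (S : Subgroup G).subgroupOf H := rfl
  refine isStronglyEmbedded_of_centralizer ?_ P ?_ ?_ ?_ ?_
  · rwa [Ne, subgroupOf_eq_top]
  · rw [hPc, Ne, subgroupOf_eq_bot, disjoint_iff]
    exact hR
  · rw [hPc]
    exact fun x hx => hS hx
  · intro t ht ho c hc
    refine hC (t : G) ⟨ht, t.2⟩ (by rwa [Subgroup.orderOf_coe]) ?_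
    rw [mem_centralizer_singleton_iff] at hc ⊢
    exact congrArg Subtype.val hc
  · intro g hg
    refine hN (g : G) g.2 ?_
    rw [mem_normalizer_iff]
    intro x
    constructor
    · intro hx
      have h := (mem_normalizer_iff.mp hg ⟨x, hx.2⟩).mp hx.1
      exact ⟨h, H.mul_mem (H.mul_mem g.2 hx.2) (H.inv_mem g.2)⟩
    · intro hx
      have hxH : x ∈ H := by
        have := H.mul_mem (H.mul_mem (H.inv_mem g.2) hx.2) g.2
        simpa [mul_assoc] using this
      exact ⟨(mem_normalizer_iff.mp hg ⟨x, hxH⟩).mpr hx.1, hxH⟩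

/-- Let `t` be an involution of the Sylow subgroup `S` and `X` a central subgroup of `S`. If every
`g` for which `gXg⁻¹` centralizes `X` normalizes `W`, then `C(t) ⊆ (C(t) ∩ N(W)) O(C(t))`,
and every subgroup of 2-power order of `C(t)` containing a conjugate of `X` is linked to `X`. -/
theorem centralizer_le_normalizer_mul (hC : SolvableCentralizers G) (S : Sylow 2 G)
    {X W : Subgroup G} (hXS : X ≤ (S : Subgroup G) ⊓ centralizer ((S : Subgroup G) : Set G))
    (hlink : ∀ g : G, (∀ x ∈ X, ∀ y ∈ X, Commute (g * x * g⁻¹) y) → g ∈ normalizer (W : Set G))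
    {t : G} (ht : t ∈ (S : Subgroup G)) (ho : orderOf t = 2) :
    (∀ c ∈ centralizer ({t} : Set G),
      ∃ n ∈ normalizer (W : Set G), ∃ k ∈ core t, c = n * k) ∧
    (∀ h : G, (∀ x ∈ X, h * x * h⁻¹ ∈ centralizer ({t} : Set G)) →
      ∃ c ∈ centralizer ({t} : Set G), c * h ∈ normalizer (W : Set G)) := by
  haveI : Fact (Nat.Prime 2) := ⟨Nat.prime_two⟩
  set C := centralizer ({t} : Set G) with hCdef
  have hXS' : X ≤ (S : Subgroup G) := hXS.trans inf_le_left
  have hXt : ∀ x ∈ X, x ∈ C := fun x hx =>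
    mem_centralizer_singleton_iff.mpr (mem_centralizer_iff.mp (hXS hx).2 t ht).symm
  -- a Sylow subgroup `T` of `C(t)` containing `C_S(t)`
  obtain ⟨T, hT⟩ := (S.isPGroup'.comap_subtype (K := C)).exists_le_sylow
  set T' := (T : Subgroup C).map C.subtype with hT'
  have hT'p : IsPGroup 2 T' := T.isPGroup'.map _
  obtain ⟨Q, hQ⟩ := hT'p.exists_le_sylow
  obtain ⟨g, hg⟩ := MulAction.exists_smul_eq G S Q
  have hQc : ∀ q ∈ T', g⁻¹ * q * g ∈ (S : Subgroup G) := by
    intro q hq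
    have h1 : q ∈ (g • S : Sylow 2 G) := hg.symm ▸ hQ hq
    obtain ⟨s, hs, rfl⟩ := h1
    simp [mul_assoc]
    exact hs
  have hXcent : ∀ x ∈ X, ∀ q ∈ T', Commute (g * x * g⁻¹) q := by
    intro x hx q hq
    have h1 : Commute x (g⁻¹ * q * g) := (mem_centralizer_iff.mp (hXS hx).2 _ (hQc q hq)).symm
    have h2 := h1.map (MulAut.conj g).toMonoidHom
    simpa [mul_assoc] using h2
  have htT : t ∈ T' := ⟨⟨t, mem_centralizer_singleton_iff.mpr rfl⟩, hT (show t ∈ (S : Subgroup G) from ht), rfl⟩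
  have hXT : X ≤ T' := fun x hx => ⟨⟨x, hXt x hx⟩, hT (show x ∈ (S : Subgroup G) from hXS' hx), rfl⟩
  have hgN : g ∈ normalizer (W : Set G) := hlink g fun x hx y hy => hXcent x hx y (hXT hy)
  have hgXC : ∀ x ∈ X, g * x * g⁻¹ ∈ C := fun x hx =>
    mem_centralizer_singleton_iff.mpr (hXcent x hx t htT).eq
  -- the conjugate of `X` lies in `T`
  have hgXT : ∀ x ∈ X, g * x * g⁻¹ ∈ T' := by
    intro x hx
    have hJ : IsPGroup 2 (((g • S : Sylow 2 G) : Subgroup G).subgroupOf C) :=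
      (g • S).isPGroup'.comap_subtype
    have hTJ : (T : Subgroup C) ≤ ((g • S : Sylow 2 G) : Subgroup G).subgroupOf C := by
      intro q hq
      have h1 : (q : G) ∈ (Q : Subgroup G) := hQ ⟨q, hq, rfl⟩
      rw [← hg] at h1
      exact h1
    refine ⟨⟨_, hgXC x hx⟩, ?_, rfl⟩
    rw [← T.is_maximal' hJ hTJ]
    exact ⟨x, hXS' hx, rfl⟩
  constructor
  · -- the Frattini argument at `O_{2',2}(C(t))`
    set L := Cfsg.pPrimePCore 2 C with hL
    have hPs : ¬ 2 ∣ ((T : Subgroup C).subgroupOf L).index :=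
      CfsgLib.Transfer.not_dvd_relIndex_of_normal T L
    set P : Sylow 2 L := (T.isPGroup'.comap_subtype (K := L)).toSylow hPs with hP
    have hcon := hC.constrained ho P
    have hPT : (P : Subgroup L).map L.subtype ≤ (T : Subgroup C) := by
      rintro _ ⟨q, hq, rfl⟩
      exact hq
    have hmemP : ∀ x (hx : x ∈ X), (⟨_, hgXC x hx⟩ : C) ∈ (P : Subgroup L).map L.subtype := by
      intro x hx
      have hxL : (⟨_, hgXC x hx⟩ : C) ∈ L := hcon <| mem_centralizer_iff.mpr fun p hp =>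
        Subtype.ext (hXcent x hx (p : G) ⟨p, hPT hp, rfl⟩).eq.symm
      obtain ⟨⟨q, hq⟩, hqT, hqe⟩ := hgXT x hx
      refine ⟨⟨_, hxL⟩, ?_, rfl⟩
      have : (⟨_, hgXC x hx⟩ : C) = ⟨q, hq⟩ := Subtype.ext hqe.symm
      show (⟨_, hgXC x hx⟩ : C) ∈ (T : Subgroup C)
      rwa [this]
    have hNP : ∀ n ∈ normalizer (((P : Subgroup L).map L.subtype : Subgroup C) : Set C),
        (n : G) ∈ normalizer (W : Set G) := by
      intro n hn
      have hkey : g⁻¹ * (n : G) * g ∈ normalizer (W : Set G) := by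
        refine hlink _ fun x hx y hy => ?_
        have h1 := (mem_normalizer_iff.mp hn _).mp (hmemP x hx)
        have h2 : Commute (g * y * g⁻¹) ((n : G) * (g * x * g⁻¹) * (n : G)⁻¹) :=
          hXcent y hy _ ⟨_, hPT h1, rfl⟩
        have h3 := h2.symm.map (MulAut.conj g⁻¹).toMonoidHom
        simpa [mul_assoc] using h3
      have := mul_mem (mul_mem hgN hkey) (inv_mem hgN)
      simpa [mul_assoc] using this
    intro c hc
    have hsup := CfsgLib.PLocal.normalizer_sylow_pPrimePCore_sup (p := 2) (G := C) P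
    have hmem : (⟨c, hc⟩ : C) ∈ normalizer (((P : Subgroup L).map L.subtype : Subgroup C) : Set C) ⊔
        Cfsg.pPrimeCore 2 C := hsup.ge (mem_top _)
    obtain ⟨n, hn, k, hk, hnk⟩ := mem_sup_of_normal_right.mp hmem
    exact ⟨n, hNP n hn, k, ⟨k, hk, rfl⟩, congrArg Subtype.val hnk.symm⟩
  · intro h hh
    have hAp : IsPGroup 2 (X.map (MulAut.conj h).toMonoidHom) :=
      (S.isPGroup'.to_le hXS').map _
    obtain ⟨c, hc, hcT⟩ := exists_conj_mem_sylow T hAp (by rintro _ ⟨x, hx, rfl⟩; exact hh x hx)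
    refine ⟨c, hc, ?_⟩
    have hkey : g⁻¹ * c * h ∈ normalizer (W : Set G) := by
      refine hlink _ fun x hx y hy => ?_
      have h2 : Commute (g * y * g⁻¹) (c * (h * x * h⁻¹) * c⁻¹) :=
        hXcent y hy _ (hcT _ ⟨x, hx, rfl⟩)
      have h3 := h2.symm.map (MulAut.conj g⁻¹).toMonoidHom
      simpa [mul_assoc] using h3
    have := mul_mem hgN hkey
    simpa [mul_assoc] using this

end CfsgLib.ZCGroup
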