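import Cfsg.Agent.ZCGroup.Structure

/-!
# The traces in `H = O²(G)` of two maximal 2-locals `S₄` or `S₄ × Z₂`

* `Trace`: a maximal 2-local `P` whose intersection with `H` is a symmetric group of degree four.
* `two_symmetric_four`: the two intersections are maximal 2-locals of `H` meeting in order eight.
-/

set_option autoImplicit false
set_option linter.style.haveILetI false
set_option linter.unusedSectionVars false

namespace CfsgLib.ZCGroup

open Subgroup

variable {G : Type*} [Group G] [Finite G]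

/-- `P` is the normalizer of a four-group `V ≤ H`, is `(P ⊓ H)` times its centre and `P ⊓ H`
embeds in `S₄`. -/
structure Trace (H P V : Subgroup G) : Prop where
  klein : Klein P V
  le_H : V ≤ H
  normalizer_eq : normalizer (V : Set G) = P
  inf_centralizer : ∀ x ∈ P ⊓ H, (∀ v ∈ V, x * v = v * x) → x ∈ V
  gen : ∀ p ∈ P, ∃ q ∈ P, (∀ x ∈ P, x * q = q * x) ∧ q * p ∈ H
  embed : ∃ f : ↥(P ⊓ H) →* Equiv.Perm (Fin 4), Function.Injective f

theorem four_lt_card_sup {V W : Subgroup G} (hV : Nat.card V = 4) (hW : Nat.card W = 4)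
    (h : V ≠ W) : 4 < Nat.card ↥(V ⊔ W) := by
  rw [← hV]
  refine lt_of_le_of_ne (Subgroup.card_le_of_le le_sup_left) fun e => h ?_
  exact (eq_of_le_of_card_ge (le_sup_right.trans
    (eq_of_le_of_card_ge (le_sup_left : V ≤ V ⊔ W) e.ge).ge) (by rw [hV, hW])).symm

theorem eight_dvd_card {K W : Subgroup G} (hK : IsPGroup 2 K) (hK4 : 4 < Nat.card K)
    (hle : K ≤ W) : 8 ∣ Nat.card W := by
  haveI : Fact (Nat.Prime 2) := ⟨Nat.prime_two⟩
  obtain ⟨n, hn⟩ := IsPGroup.iff_card.mp hK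
  have hn3 : 3 ≤ n := by
    by_contra hlt
    have := Nat.pow_le_pow_right (show 0 < 2 by omega) (show n ≤ 2 by omega)
    omega
  have hd := card_dvd_of_le hle
  rw [hn] at hd
  exact (Nat.pow_dvd_pow 2 hn3).trans hd

theorem twentyFour_dvd {H P V K : Subgroup G} (hV : Klein P V)
    (hH : ∀ a : G, a ^ 3 = 1 → a ∈ H) (hK : IsPGroup 2 K) (hK4 : 4 < Nat.card K)
    (hle : K ≤ P ⊓ H) : 24 ∣ Nat.card ↥(P ⊓ H) := by
  haveI : Fact (Nat.Prime 3) := ⟨Nat.prime_three⟩
  obtain ⟨v, hv, hv1, -⟩ := exists_second'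
    (by rw [hV.four.card_four]; omega : 3 ≤ Nat.card V) (1 : G)
  obtain ⟨a, ha, b, hb, ha3, hb3, rfl⟩ := hV.three v hv
  have key : ∀ x ∈ P, x ^ 3 = 1 → x ≠ 1 → 3 ∣ Nat.card ↥(P ⊓ H) := by
    intro x hx hx3 hx1
    have h := orderOf_dvd_natCard (⟨x, hx, hH x hx3⟩ : ↥(P ⊓ H))
    rwa [← Subgroup.orderOf_coe, orderOf_eq_prime hx3 hx1] at h
  refine Nat.Coprime.mul_dvd_of_dvd_of_dvd (by norm_num : Nat.Coprime 8 3)
    (eight_dvd_card hK hK4 hle) ?_
  by_cases ha1 : a = 1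
  · exact key b hb hb3 fun e => hv1 (by rw [ha1, e, one_mul])
  · exact key a ha ha3 ha1

theorem ofAdd_one_ne_one : Multiplicative.ofAdd (1 : ZMod 2) ≠ 1 := by decide +kernel

theorem eq_one_or_ofAdd_one : ∀ i : Multiplicative (ZMod 2), i = 1 ∨ i = Multiplicative.ofAdd 1 := by
  decide +kernel

namespace Trace

variable {H P V : Subgroup G}

theorem card_dvd (d : Trace H P V) : Nat.card ↥(P ⊓ H) ∣ 24 := by
  obtain ⟨f, hf⟩ := d.embed
  have h := card_dvd_of_injective f hf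
  rwa [Nat.card_perm, Nat.card_fin] at h

theorem card_eq (d : Trace H P V) (hH : ∀ a : G, a ^ 3 = 1 → a ∈ H) {K : Subgroup G}
    (hK : IsPGroup 2 K) (hK4 : 4 < Nat.card K) (hle : K ≤ P ⊓ H) :
    Nat.card ↥(P ⊓ H) = 24 :=
  Nat.dvd_antisymm d.card_dvd (twentyFour_dvd d.klein hH hK hK4 hle)

theorem nonempty_equiv (d : Trace H P V) (h24 : Nat.card ↥(P ⊓ H) = 24) :
    Nonempty (↥((P ⊓ H).subgroupOf H) ≃* Equiv.Perm (Fin 4)) := by
  obtain ⟨f, hf⟩ := d.embed
  exact ⟨(subgroupOfEquivOfLe inf_le_right).trans (MulEquiv.ofBijective f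
    ((Nat.bijective_iff_injective_and_card _).mpr
      ⟨hf, by rw [h24, Nat.card_perm, Nat.card_fin]; rfl⟩))⟩

/-- A 2-subgroup of `H` normalized by `P ⊓ H` is trivial or `V`. -/
theorem eq_of_normalized [H.Normal] (d : Trace H P V) {U : Subgroup G} (hU : IsPGroup 2 U)
    (hUH : U ≤ H) (hU1 : U ≠ ⊥) (hn : P ⊓ H ≤ normalizer (U : Set G)) : U = V := by
  haveI : Fact (Nat.Prime 2) := ⟨Nat.prime_two⟩
  have hV2 : IsPGroup 2 V := IsPGroup.of_card (n := 2) d.klein.four.card_four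
  have hVn : V ≤ normalizer (U : Set G) := (le_inf d.klein.le d.le_H).trans hn
  have hVU2 : IsPGroup 2 ↥(V ⊔ U) := hV2.to_sup_of_normal_right' hU hVn
  haveI : (U.subgroupOf (V ⊔ U)).Normal :=
    (normal_subgroupOf_iff_le_normalizer le_sup_right).mpr (sup_le hVn le_normalizer)
  obtain ⟨z, hzU, hzc, hz⟩ := CfsgLib.Small.exists_central_invol_mem (G := ↥(V ⊔ U)) hVU2
    (U.subgroupOf (V ⊔ U)) (fun e => by
      rw [subgroupOf_eq_bot, disjoint_iff, inf_eq_left.mpr (le_sup_right : U ≤ V ⊔ U)] at e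
      exact hU1 e)
  have hzcomm : ∀ v ∈ V, (z : G) * v = v * z := fun v hv =>
    (congrArg Subtype.val (mem_center_iff.mp hzc ⟨v, mem_sup_left hv⟩)).symm
  have hzP : (z : G) ∈ P := d.normalizer_eq ▸ centralizer_le_normalizer _
    (mem_centralizer_iff.mpr fun v hv => (hzcomm v hv).symm)
  have hzV : (z : G) ∈ V := d.inf_centralizer _ ⟨hzP, hUH hzU⟩ hzcomm
  have hVU : V ≤ U := by
    intro w hw
    by_cases hw1 : w = 1
    · rw [hw1]; exact U.one_mem
    obtain ⟨p, hp, e⟩ := d.klein.transitive (z : G) hzV w hw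
      (ne_one_of_orderOf (by rwa [Subgroup.orderOf_coe])) hw1
    obtain ⟨q, hq, hqc, hqp⟩ := d.gen p hp
    have h1 : q * p * (z : G) * (q * p)⁻¹ = w := by
      calc q * p * (z : G) * (q * p)⁻¹ = q * (p * z * p⁻¹) * q⁻¹ := by group
        _ = w := by rw [e, ← hqc w (d.klein.le hw), mul_inv_cancel_right]
    exact h1 ▸ (mem_normalizer_iff.mp (hn ⟨P.mul_mem hq hp, hqp⟩) _).mp hzU
  -- `U ⊓ N(V) = V`
  have hUV : ∀ u ∈ U, u ∈ normalizer (V : Set G) → u ∈ V := by
    intro u hu hun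
    have huP : u ∈ P := d.normalizer_eq ▸ hun
    -- `u` commutes with `V` or moves it inside the 2-group `U ⊓ P` normalized by `P ⊓ H`
    by_contra huV
    have hmove : ∃ v ∈ V, u * v ≠ v * u := by
      by_contra hall
      push Not at hall
      exact huV (d.inf_centralizer u ⟨huP, hUH hu⟩ hall)
    obtain ⟨v, hv, hne⟩ := hmove
    -- a nontrivial fixed point of `U ⊓ P` on `V` is moved everywhere
    have hA2 : IsPGroup 2 ↥(U ⊓ P) := hU.to_le inf_le_left
    have hVA : V ≤ U ⊓ P := le_inf hVU d.klein.le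
    haveI : (V.subgroupOf (U ⊓ P)).Normal :=
      (normal_subgroupOf_iff_le_normalizer hVA).mpr (inf_le_right.trans d.klein.le_normalizer)
    obtain ⟨c, hcV, hcc, hc⟩ := CfsgLib.Small.exists_central_invol_mem (G := ↥(U ⊓ P)) hA2
      (V.subgroupOf (U ⊓ P)) (fun e => by
        rw [subgroupOf_eq_bot, disjoint_iff, inf_eq_left.mpr hVA] at e
        have := d.klein.four.card_four
        rw [e, card_bot] at this
        omega)
    have hcfix : ∀ w ∈ U ⊓ P, Commute w (c : G) := fun w hw =>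
      congrArg Subtype.val (mem_center_iff.mp hcc ⟨w, hw⟩)
    by_cases hv1 : v = 1
    · exact hne (by rw [hv1, mul_one, one_mul])
    obtain ⟨p, hp, e⟩ := d.klein.transitive (c : G) hcV v hv
      (ne_one_of_orderOf (by rwa [Subgroup.orderOf_coe])) hv1
    obtain ⟨q, hq, hqc, hqp⟩ := d.gen p hp
    set r := q * p with hr
    have hrP : r ∈ P := P.mul_mem hq hp
    have he : r * (c : G) * r⁻¹ = v := by
      calc r * (c : G) * r⁻¹ = q * (p * c * p⁻¹) * q⁻¹ := by rw [hr]; group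
        _ = v := by rw [e, ← hqc v (d.klein.le hv), mul_inv_cancel_right]
    have hrn := inv_mem (hn ⟨hrP, hqp⟩)
    have hw : r⁻¹ * u * r ∈ U ⊓ P := by
      refine ⟨?_, P.mul_mem (P.mul_mem (P.inv_mem hrP) huP) hrP⟩
      have := (mem_normalizer_iff.mp hrn u).mp hu
      rwa [inv_inv] at this
    have h2 := (hcfix _ hw).map (MulAut.conj r).toMonoidHom
    refine hne ?_
    rw [← he]
    simpa [mul_assoc] using h2.eq
  refine le_antisymm ?_ hVU
  have hnc := hU.isNilpotent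
  by_contra hlt
  have hlt' : V.subgroupOf U < ⊤ := by
    rw [lt_top_iff_ne_top, Ne, subgroupOf_eq_top]
    exact hlt
  obtain ⟨x, hxn, hxV⟩ := SetLike.exists_of_lt (Group.normalizerCondition_of_isNilpotent _ hlt')
  refine hxV (mem_subgroupOf.mpr (hUV x x.2 ?_))
  rw [mem_normalizer_iff]
  intro y
  by_cases hyU : y ∈ U
  · exact mem_normalizer_iff.mp hxn ⟨y, hyU⟩
  · refine iff_of_false (fun h => hyU (hVU h)) fun h => hyU ?_
    have := U.mul_mem (U.mul_mem (U.inv_mem x.2) (hVU h)) x.2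
    rwa [show (x : G)⁻¹ * ((x : G) * y * (x : G)⁻¹) * (x : G) = y by group] at this

theorem isMaximalTwoLocal [H.Normal] (d : Trace H P V) :
    Cfsg.IsMaximalTwoLocal ((P ⊓ H).subgroupOf H) := by
  have hV2 : IsPGroup 2 V := IsPGroup.of_card (n := 2) d.klein.four.card_four
  have hVne : V ≠ ⊥ := fun e => by
    have := d.klein.four.card_four
    rw [e, card_bot] at this
    omega
  have hnorm : ∀ (U : Subgroup H) (x : H), x ∈ normalizer (U : Set H) ↔
      (x : G) ∈ normalizer ((U.map H.subtype : Subgroup G) : Set G) := by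
    intro U x
    constructor
    · intro hx
      exact le_normalizer_map (f := H.subtype) ⟨x, hx, rfl⟩
    · intro hx
      rw [mem_normalizer_iff]
      intro y
      have hy := mem_normalizer_iff.mp hx (y : G)
      constructor
      · intro h
        obtain ⟨w, hw, e⟩ := hy.mp ⟨y, h, rfl⟩
        exact (H.subtype_injective (show H.subtype w = H.subtype (x * y * x⁻¹) from e)) ▸ hw
      · intro h
        obtain ⟨w, hw, e⟩ := hy.mpr ⟨x * y * x⁻¹, h, rfl⟩
        exact (H.subtype_injective (show H.subtype w = H.subtype y from e)) ▸ hw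
  refine ⟨⟨V.subgroupOf H, hV2.comap_subtype, (fun e => hVne ?_), ?_⟩, ?_⟩
  · rw [← map_subgroupOf_eq_of_le d.le_H, show V.subgroupOf H = ⊥ from e, Subgroup.map_bot]
  · ext x
    rw [hnorm, map_subgroupOf_eq_of_le d.le_H, d.normalizer_eq, mem_subgroupOf, mem_inf]
    exact ⟨fun h => h.1, fun h => ⟨h, x.2⟩⟩
  · rintro N ⟨U, hU, hU1, rfl⟩ hle
    have hU' : U.map H.subtype ≠ ⊥ := by
      rwa [Ne, Subgroup.map_eq_bot_iff_of_injective _ H.subtype_injective]
    have hn : P ⊓ H ≤ normalizer ((U.map H.subtype : Subgroup G) : Set G) := by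
      intro x hx
      exact (hnorm U ⟨x, hx.2⟩).mp (hle (mem_subgroupOf.mpr hx))
    have he := d.eq_of_normalized (hU.map _) (map_subtype_le U) hU' hn
    ext x
    rw [hnorm, he, d.normalizer_eq, mem_subgroupOf, mem_inf]
    exact ⟨fun h => ⟨h, x.2⟩, fun h => h.1⟩

end Trace

/-- A 2-subgroup of `P` normalized by a subgroup of odd index lies in it. -/
theorem le_of_isSylowTwoIn {T P A : Subgroup G} (hT : Cfsg.IsSylowTwoIn T P) (hA : IsPGroup 2 A)
    (hAP : A ≤ P) (h : T ≤ normalizer (A : Set G)) : A ≤ T := by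
  haveI : Fact (Nat.Prime 2) := ⟨Nat.prime_two⟩
  have hp : IsPGroup 2 ↥(T ⊔ A) := hT.2.1.to_sup_of_normal_right' hA h
  have hTA : T ⊔ A ≤ P := sup_le hT.1 hAP
  have hodd : Odd (T.relIndex P) := hT.2.2
  have hdvd : T.relIndex (T ⊔ A) ∣ T.relIndex P := ⟨(T ⊔ A).relIndex P,
    (relIndex_mul_relIndex T (T ⊔ A) P le_sup_left hTA).symm⟩
  have hk0 : T.relIndex (T ⊔ A) = 1 := by
    obtain ⟨j, hj⟩ := IsPGroup.iff_card.mp hp
    have h2 : T.relIndex (T ⊔ A) ∣ 2 ^ j := hj ▸ (T.subgroupOf (T ⊔ A)).index_dvd_card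
    have h3 : Nat.Coprime (T.relIndex (T ⊔ A)) (2 ^ j) :=
      (Nat.coprime_two_right.mpr (Odd.of_dvd_nat hodd hdvd)).pow_right j
    exact Nat.Coprime.eq_one_of_dvd h3 h2
  exact le_sup_right.trans (relIndex_eq_one.mp hk0)

/-- Two traces with a common Sylow 2-subgroup. -/
theorem two_symmetric_four {H P₁ V₁ P₂ V₂ T : Subgroup G} [H.Normal]
    (hH : ∀ a : G, a ^ 3 = 1 → a ∈ H) (d₁ : Trace H P₁ V₁) (d₂ : Trace H P₂ V₂)
    (hT₁ : Cfsg.IsSylowTwoIn T P₁) (hT₂ : Cfsg.IsSylowTwoIn T P₂) (hne : P₁ ≠ P₂) :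
    ∃ M₁ M₂ : Subgroup H, M₁ ≠ M₂ ∧ Cfsg.IsMaximalTwoLocal M₁ ∧ Cfsg.IsMaximalTwoLocal M₂ ∧
      Nonempty (M₁ ≃* Equiv.Perm (Fin 4)) ∧ Nonempty (M₂ ≃* Equiv.Perm (Fin 4)) ∧
      Nat.card ↥(M₁ ⊓ M₂) = 8 := by
  haveI : Fact (Nat.Prime 2) := ⟨Nat.prime_two⟩
  have hVne : V₁ ≠ V₂ := fun e => hne (by rw [← d₁.normalizer_eq, e, d₂.normalizer_eq])
  have hV₁T := le_of_isSylowTwoIn hT₁ (IsPGroup.of_card (n := 2) d₁.klein.four.card_four)
    d₁.klein.le (hT₁.1.trans d₁.klein.le_normalizer)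
  have hV₂T := le_of_isSylowTwoIn hT₂ (IsPGroup.of_card (n := 2) d₂.klein.four.card_four)
    d₂.klein.le (hT₂.1.trans d₂.klein.le_normalizer)
  set K := V₁ ⊔ V₂ with hKdef
  have hKT : K ≤ T := sup_le hV₁T hV₂T
  have hK : IsPGroup 2 K := hT₁.2.1.to_le hKT
  have hKH : K ≤ H := sup_le d₁.le_H d₂.le_H
  have hK4 : 4 < Nat.card K :=
    four_lt_card_sup d₁.klein.four.card_four d₂.klein.four.card_four hVne
  have hK₁ : K ≤ P₁ ⊓ H := le_inf (hKT.trans hT₁.1) hKH
  have hK₂ : K ≤ P₂ ⊓ H := le_inf (hKT.trans hT₂.1) hKH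
  have h₁ := d₁.card_eq hH hK hK4 hK₁
  have h₂ := d₂.card_eq hH hK hK4 hK₂
  have hWne : P₁ ⊓ H ≠ P₂ ⊓ H := by
    intro e
    refine hne (eq_of_le_of_card_ge ?_ ?_)
    · intro p hp
      obtain ⟨q, hq, hqc, hqp⟩ := d₁.gen p hp
      have h2 : q * p ∈ P₂ := (e.le ⟨P₁.mul_mem hq hp, hqp⟩).1
      have h3 : q ∈ P₂ := d₂.normalizer_eq ▸ centralizer_le_normalizer _
        (mem_centralizer_iff.mpr fun v hv => hqc v (hT₁.1 (hV₂T hv)))
      simpa using P₂.mul_mem (P₂.inv_mem h3) h2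
    · refine Nat.le_of_dvd (Nat.card_pos) ?_
      refine card_dvd_of_le ?_
      intro p hp
      obtain ⟨q, hq, hqc, hqp⟩ := d₂.gen p hp
      have h2 : q * p ∈ P₁ := (e.ge ⟨P₂.mul_mem hq hp, hqp⟩).1
      have h3 : q ∈ P₁ := d₁.normalizer_eq ▸ centralizer_le_normalizer _
        (mem_centralizer_iff.mpr fun v hv => hqc v (hT₂.1 (hV₁T hv)))
      simpa using P₁.mul_mem (P₁.inv_mem h3) h2
  have hI : Nat.card ↥((P₁ ⊓ H) ⊓ (P₂ ⊓ H)) = 8 := by
    have h8 : 8 ∣ Nat.card ↥((P₁ ⊓ H) ⊓ (P₂ ⊓ H)) := eight_dvd_card hK hK4 (le_inf hK₁ hK₂)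
    have h24 : Nat.card ↥((P₁ ⊓ H) ⊓ (P₂ ⊓ H)) ∣ 24 := h₁ ▸ card_dvd_of_le inf_le_left
    have hne24 : Nat.card ↥((P₁ ⊓ H) ⊓ (P₂ ⊓ H)) ≠ 24 := by
      intro e
      have e1 := eq_of_le_of_card_ge (inf_le_left : (P₁ ⊓ H) ⊓ (P₂ ⊓ H) ≤ P₁ ⊓ H) (by omega)
      have e2 := eq_of_le_of_card_ge (inf_le_right : (P₁ ⊓ H) ⊓ (P₂ ⊓ H) ≤ P₂ ⊓ H) (by omega)
      exact hWne (e1.symm.trans e2)
    obtain ⟨j, hj⟩ := h8
    rw [hj] at h24 hne24 ⊢
    rcases (Nat.dvd_prime Nat.prime_three).mp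
      (Nat.dvd_of_mul_dvd_mul_left (by norm_num : 0 < 8) (show 8 * j ∣ 8 * 3 from h24)) with e | e <;>
      omega
  refine ⟨(P₁ ⊓ H).subgroupOf H, (P₂ ⊓ H).subgroupOf H, fun e => hWne ?_, d₁.isMaximalTwoLocal,
    d₂.isMaximalTwoLocal, d₁.nonempty_equiv h₁, d₂.nonempty_equiv h₂, ?_⟩
  · rw [← map_subgroupOf_eq_of_le (inf_le_right : P₁ ⊓ H ≤ H), e,
      map_subgroupOf_eq_of_le (inf_le_right : P₂ ⊓ H ≤ H)]
  · rw [← card_map_of_injective H.subtype_injective, Subgroup.map_inf _ _ _ H.subtype_injective,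
      map_subgroupOf_eq_of_le (inf_le_right : P₁ ⊓ H ≤ H),
      map_subgroupOf_eq_of_le (inf_le_right : P₂ ⊓ H ≤ H)]
    exact hI

/-- A maximal 2-local subgroup is the normalizer of its four-group. -/
theorem normalizer_eq_of_max {P V : Subgroup G} (hP : Cfsg.IsMaximalTwoLocal P)
    (hV : Klein P V) : normalizer (V : Set G) = P :=
  hP.2 _ ⟨V, IsPGroup.of_card (n := 2) hV.four.card_four, (fun e => by
    have := hV.four.card_four
    rw [e, card_bot] at this
    omega), rfl⟩ hV.le_normalizer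

/-- A four-group whose elements are products of elements of order three lies in `H`. -/
theorem klein_le_of_three {H P V : Subgroup G} (hV : Klein P V)
    (hH : ∀ a : G, a ^ 3 = 1 → a ∈ H) : V ≤ H := by
  intro v hv
  obtain ⟨a, -, b, -, ha, hb, rfl⟩ := hV.three v hv
  exact H.mul_mem (hH a ha) (hH b hb)

/-- Every pair given by the straddling analysis yields two traces in `O²(G)`. -/
theorem exists_traces
    (hZ : ∀ S : Sylow 2 G, centralizer (zc S : Set G) ≤ normalizer ((S : Subgroup G) : Set G))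
    {P₁ P₂ T : Subgroup G} (hne : P₁ ≠ P₂) (hm₁ : Cfsg.IsMaximalTwoLocal P₁)
    (hm₂ : Cfsg.IsMaximalTwoLocal P₂) (hT₁ : Cfsg.IsSylowTwoIn T P₁)
    (hT₂ : Cfsg.IsSylowTwoIn T P₂)
    (hiso : (Nonempty (↥P₁ ≃* Equiv.Perm (Fin 4)) ∧ Nonempty (↥P₂ ≃* Equiv.Perm (Fin 4))) ∨
        (Nonempty (↥P₁ ≃* Equiv.Perm (Fin 4) × Multiplicative (ZMod 2)) ∧
          Nonempty (↥P₂ ≃* Equiv.Perm (Fin 4) × Multiplicative (ZMod 2)))) :
    ∃ V₁ V₂, Trace (Cfsg.pResidual 2 G) P₁ V₁ ∧ Trace (Cfsg.pResidual 2 G) P₂ V₂ := by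
  haveI : Fact (Nat.Prime 2) := ⟨Nat.prime_two⟩
  haveI : (Cfsg.pResidual 2 G).Normal := inferInstance
  set H := Cfsg.pResidual 2 G with hHdef
  have hH : ∀ a : G, a ^ 3 = 1 → a ∈ H := fun a => mem_pResidual_of_pow_three
  rcases hiso with ⟨⟨e₁⟩, ⟨e₂⟩⟩ | ⟨⟨e₁⟩, ⟨e₂⟩⟩
  · obtain ⟨V₁, hV₁, hC₁⟩ := exists_klein e₁
    obtain ⟨V₂, hV₂, hC₂⟩ := exists_klein e₂
    have hn₁ := normalizer_eq_of_max hm₁ hV₁
    have hn₂ := normalizer_eq_of_max hm₂ hV₂
    have hV₁T := le_of_isSylowTwoIn hT₁ (IsPGroup.of_card (n := 2) hV₁.four.card_four)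
      hV₁.le (hT₁.1.trans hV₁.le_normalizer)
    have hV₂T := le_of_isSylowTwoIn hT₂ (IsPGroup.of_card (n := 2) hV₂.four.card_four)
      hV₂.le (hT₂.1.trans hV₂.le_normalizer)
    have mk : ∀ {P V W : Subgroup G}, (↥P ≃* Equiv.Perm (Fin 4)) → Klein P V →
        P ⊓ centralizer (V : Set G) ≤ V → normalizer (V : Set G) = P →
        V ≤ T → W ≤ T → T ≤ P → V ≠ W → W ≤ H → Nat.card W = 4 →
        Trace H P V := by
      intro P V W e hV hC hn hVT hWT hTP hVW hWH hW4
      have hVH := klein_le_of_three hV hH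
      have h24 := twentyFour_dvd (H := H) hV hH (hT₁.2.1.to_le (sup_le hVT hWT))
        (four_lt_card_sup hV.four.card_four hW4 hVW)
        (le_inf (sup_le (hVT.trans hTP) (hWT.trans hTP)) (sup_le hVH hWH))
      have hP24 : Nat.card P = 24 := by
        rw [Nat.card_congr e.toEquiv, Nat.card_perm, Nat.card_fin]; rfl
      have hPH : P ≤ H := inf_eq_left.mp (eq_of_le_of_card_ge inf_le_left
        (hP24 ▸ Nat.le_of_dvd Nat.card_pos h24))
      exact ⟨hV, klein_le_of_three hV hH, hn,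
        fun x hx hc => hC ⟨hx.1, mem_centralizer_iff.mpr fun v hv => (hc v hv).symm⟩,
        fun p hp => ⟨1, P.one_mem, fun x _ => by rw [one_mul, mul_one],
          by rw [one_mul]; exact hPH hp⟩,
        ⟨e.toMonoidHom.comp (Subgroup.inclusion inf_le_left),
          e.injective.comp (Subgroup.inclusion_injective _)⟩⟩
    have hVne : V₁ ≠ V₂ := fun e => hne (by rw [← hn₁, e, hn₂])
    exact ⟨V₁, V₂,
      mk e₁ hV₁ hC₁ hn₁ hV₁T hV₂T hT₁.1 hVne (klein_le_of_three hV₂ hH) hV₂.four.card_four,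
      mk e₂ hV₂ hC₂ hn₂ hV₂T hV₁T hT₂.1 (Ne.symm hVne) (klein_le_of_three hV₁ hH)
        hV₁.four.card_four⟩
  · obtain ⟨V₁, c₁, hd₁⟩ := exists_central e₁
    obtain ⟨V₂, c₂, hd₂⟩ := exists_central e₂
    have hn₁ := normalizer_eq_of_max hm₁ hd₁.toKlein
    have hn₂ := normalizer_eq_of_max hm₂ hd₂.toKlein
    have hTcard : ∀ {P : Subgroup G}, Cfsg.IsSylowTwoIn T P → Nat.card P = 48 →
        Nat.card T = 16 := by
      intro P hTP h48
      obtain ⟨k, hk⟩ := IsPGroup.iff_card.1 hTP.2.1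
      have h := card_mul_index (T.subgroupOf P)
      rw [Nat.card_congr (subgroupOfEquivOfLe hTP.1).toEquiv, hk, h48] at h
      have hodd : Odd ((T.subgroupOf P).index) := hTP.2.2
      have hk4 : k ≤ 5 := by
        by_contra hlt
        have h2 : 2 ^ k ∣ 48 := h ▸ dvd_mul_right _ _
        have h3 := (Nat.pow_dvd_pow 2 (show 6 ≤ k by omega)).trans h2
        norm_num at h3
      rw [hk]
      rcases hodd with ⟨j, hj⟩
      interval_cases k <;> omega
    have hmax : ∀ {P : Subgroup G}, Cfsg.IsMaximalTwoLocal P → IsMaxIn ⊤ P := fun hP =>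
      ⟨le_top, fun U _ hU hU1 hPU => inf_le_right.trans (hP.2 _ ⟨U, hU, hU1, rfl⟩ hPU).le⟩
    have half₁ : Half ⊤ T P₁ V₁ c₁ :=
      ⟨hmax hm₁, hd₁, hT₁.2.1, hTcard hT₁ hd₁.card, hT₁.1⟩
    have half₂ : Half ⊤ T P₂ V₂ c₂ :=
      ⟨hmax hm₂, hd₂, hT₂.2.1, hTcard hT₂ hd₂.card, hT₂.1⟩
    have hno : ∀ {P V Q W : Subgroup G} {c d : G}, Half ⊤ T P V c → Half ⊤ T Q W d → P ≠ Q →
        c ∉ H := by
      intro P V Q W c d h h' hPQ hc
      obtain ⟨z, dd⟩ := Two.exists_two h h' hPQ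
      exact false_of_pair le_top pResidual_pResidual_eq hZ (fun _ => le_top) dd hc
        (klein_le_of_three h.data.toKlein hH) (klein_le_of_three h'.data.toKlein hH)
    have mk : ∀ {P V W : Subgroup G} {c : G},
        (↥P ≃* Equiv.Perm (Fin 4) × Multiplicative (ZMod 2)) → Central P V c →
        normalizer (V : Set G) = P → c ∉ H → V ≤ T → W ≤ T → T ≤ P → V ≠ W → W ≤ H →
        Nat.card W = 4 → Trace H P V := by
      intro P V W c e hd hn hc hVT hWT hTP hVW hWH hW4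
      have hVH := klein_le_of_three hd.toKlein hH
      have hcc : c * c = 1 := mul_self_of_orderOf hd.orderOf_eq
      have hone : ∀ v ∈ V, (∀ p ∈ P, p * v = v * p) → v = 1 := by
        intro v hv hcv
        by_contra hv1
        obtain ⟨w, hw, hw1, hwv⟩ := exists_second'
          (by rw [hd.four.card_four]; omega : 3 ≤ Nat.card V) v
        obtain ⟨p, hp, e⟩ := hd.transitive v hv w hw hv1 hw1
        rw [hcv p hp, mul_inv_cancel_right] at e
        exact hwv e.symm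
      set c' : G := ((e.symm (1, Multiplicative.ofAdd 1) : P) : G) with hc'
      have hc'c : ∀ p ∈ P, p * c' = c' * p := by
        intro p hp
        refine congrArg Subtype.val (e.injective (a₁ := ⟨p, hp⟩ * e.symm (1, Multiplicative.ofAdd 1))
          (a₂ := e.symm (1, Multiplicative.ofAdd 1) * ⟨p, hp⟩) ?_)
        rw [map_mul, map_mul, e.apply_symm_apply]
        exact Prod.ext (by simp) (mul_comm _ _)
      have hc'1 : c' ≠ 1 := by
        intro h
        have h1 : e.symm (1, Multiplicative.ofAdd 1) = 1 := Subtype.ext h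
        rw [MulEquiv.map_eq_one_iff] at h1
        exact absurd (congrArg Prod.snd h1) ofAdd_one_ne_one
      have hceq : c' = c := by
        rcases hd.centralizer_le c' (SetLike.coe_mem _) (fun v hv => (hc'c v (hd.le hv)).symm)
          with h | h
        · exact absurd (hone c' h hc'c) hc'1
        · have h1 := hone (c * c') h fun p hp =>
            ((show Commute p c from hd.comm p hp).mul_right (hc'c p hp)).eq
          calc c' = c * c * c' := by rw [hcc, one_mul]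
            _ = c * (c * c') := mul_assoc _ _ _
            _ = c := by rw [h1, mul_one]
      let f : ↥(P ⊓ H) →* Equiv.Perm (Fin 4) := (MonoidHom.fst _ _).comp
        (e.toMonoidHom.comp (Subgroup.inclusion inf_le_left))
      have htwo := eq_one_or_ofAdd_one
      refine ⟨hd.toKlein, klein_le_of_three hd.toKlein hH, hn, ?_, ?_, ⟨f, ?_⟩⟩
      · rintro x ⟨hxP, hxH⟩ hxc
        rcases hd.centralizer_le x hxP hxc with h | h
        · exact h
        · refine absurd ?_ hc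
          have := H.mul_mem (klein_le_of_three hd.toKlein hH h) (H.inv_mem hxH)
          rwa [mul_inv_cancel_right] at this
      · intro p hp
        by_cases hpH : p ∈ H
        · exact ⟨1, P.one_mem, fun x _ => by rw [one_mul, mul_one], by rwa [one_mul]⟩
        · refine ⟨c, hd.mem, hd.comm, ?_⟩
          have h24 := twentyFour_dvd (H := H) hd.toKlein hH (hT₁.2.1.to_le (sup_le hVT hWT))
            (four_lt_card_sup hd.four.card_four hW4 hVW)
            (le_inf (sup_le (hVT.trans hTP) (hWT.trans hTP)) (sup_le hVH hWH))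
          have h := card_mul_index (H.subgroupOf P)
          rw [← inf_subgroupOf_left H P,
            Nat.card_congr (subgroupOfEquivOfLe (inf_le_left : P ⊓ H ≤ P)).toEquiv, hd.card] at h
          obtain ⟨k, hk⟩ := h24
          have hne1 : ((P ⊓ H).subgroupOf P).index ≠ 1 := by
            rw [Ne, Subgroup.index_eq_one, subgroupOf_eq_top]
            exact fun hle => hc (hle hd.mem).2
          have hidx : ((P ⊓ H).subgroupOf P).index = 2 := by
            have h2 : k * ((P ⊓ H).subgroupOf P).index = 2 := by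
              rw [hk, mul_assoc] at h
              omega
            exact ((Nat.dvd_prime Nat.prime_two).mp ⟨k, by rw [mul_comm, h2]⟩).resolve_left hne1
          exact ((mul_mem_iff_of_index_two hidx (a := (⟨c, hd.mem⟩ : P)) (b := ⟨p, hp⟩)).mpr
            (iff_of_false (fun h => hc h.2) fun h => hpH h.2)).2
      · rw [injective_iff_map_eq_one]
        intro x hx
        rcases htwo (e ⟨x, x.2.1⟩).2 with h | h
        · have h1 : e ⟨x, x.2.1⟩ = 1 := Prod.ext hx h
          rw [MulEquiv.map_eq_one_iff] at h1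
          exact Subtype.ext (congrArg (fun y : P => (y : G)) h1 :)
        · have h1 : e ⟨x, x.2.1⟩ = (1, Multiplicative.ofAdd 1) := Prod.ext hx h
          refine absurd ?_ hc
          rw [← hceq, hc', ← h1, e.symm_apply_apply]
          exact x.2.2
    have hVne : V₁ ≠ V₂ := fun e => hne (by rw [← hn₁, e, hn₂])
    exact ⟨V₁, V₂,
      mk e₁ hd₁ hn₁ (hno half₁ half₂ hne) half₁.V_le half₂.V_le hT₁.1 hVne
        (klein_le_of_three hd₂.toKlein hH) hd₂.four.card_four,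
      mk e₂ hd₂ hn₂ (hno half₂ half₁ (Ne.symm hne)) half₂.V_le half₁.V_le hT₂.1 (Ne.symm hVne)
        (klein_le_of_three hd₁.toKlein hH) hd₁.four.card_four⟩

end CfsgLib.ZCGroup
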