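import Mathlib.GroupTheory.Perm.Fin
import Mathlib.GroupTheory.SpecificGroups.KleinFour
import Mathlib.Data.Fintype.Perm
import Cfsg.Prelude.Def_CaseTheorems

/-!
# Subgroups isomorphic to `S₄` and to `S₄ × Z₂`

* `Klein`: what an embedded `S₄` gives about its normal four-group.
* `Central`: the same for an embedded `S₄ × Z₂`, with its central involution.
-/

set_option autoImplicit false
set_option linter.style.haveILetI false

namespace CfsgLib.ZCGroup

open Subgroup

/-- The four-group of `S₄`. -/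
def kleinS4 : Subgroup (Equiv.Perm (Fin 4)) where
  carrier := {σ | σ * σ = 1 ∧ Equiv.Perm.sign σ = 1}
  one_mem' := by simp
  mul_mem' := by
    intro a b
    revert a b
    simp only [Set.mem_ofPred_eq]
    decide +kernel
  inv_mem' := by
    intro a
    revert a
    simp only [Set.mem_ofPred_eq]
    decide +kernel

theorem mem_kleinS4 {σ : Equiv.Perm (Fin 4)} :
    σ ∈ kleinS4 ↔ σ * σ = 1 ∧ Equiv.Perm.sign σ = 1 := Iff.rfl

instance decidableMemKleinS4 : DecidablePred (· ∈ kleinS4) := fun _ =>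
  decidable_of_iff _ mem_kleinS4.symm

theorem card_kleinS4 : Nat.card kleinS4 = 4 := by
  rw [Nat.card_eq_fintype_card]
  decide +kernel

theorem kleinS4_normal : ∀ s k : Equiv.Perm (Fin 4), k ∈ kleinS4 → s * k * s⁻¹ ∈ kleinS4 := by
  decide +kernel

theorem kleinS4_self : ∀ s : Equiv.Perm (Fin 4),
    (∀ k ∈ kleinS4, s * k = k * s) → s ∈ kleinS4 := by decide +kernel

theorem kleinS4_square : ∀ k ∈ kleinS4, ∃ s : Equiv.Perm (Fin 4), s * s = k := by decide +kernel

theorem kleinS4_three : ∀ k ∈ kleinS4, ∃ a b : Equiv.Perm (Fin 4),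
    a * a * a = 1 ∧ b * b * b = 1 ∧ k = a * b := by decide +kernel

theorem kleinS4_transitive : ∀ k ∈ kleinS4, ∀ l ∈ kleinS4, k ≠ 1 → l ≠ 1 →
    ∃ s : Equiv.Perm (Fin 4), s * k * s⁻¹ = l := by decide +kernel

variable {G : Type*} [Group G]

/-- What a subgroup `P ≅ S₄` or a complement in `P ≅ S₄ × Z₂` says about its four-group `V`. -/
structure Klein (P V : Subgroup G) : Prop where
  four : IsKleinFour V
  le : V ≤ P
  le_normalizer : P ≤ normalizer (V : Set G)
  square : ∀ v ∈ V, ∃ y ∈ P, y * y = v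
  three : ∀ v ∈ V, ∃ a ∈ P, ∃ b ∈ P, a ^ 3 = 1 ∧ b ^ 3 = 1 ∧ v = a * b
  transitive : ∀ v ∈ V, ∀ w ∈ V, v ≠ 1 → w ≠ 1 → ∃ p ∈ P, p * v * p⁻¹ = w

theorem klein_of_injective {P : Subgroup G} (f : Equiv.Perm (Fin 4) →* G)
    (hf : Function.Injective f) (hP : ∀ s, f s ∈ P)
    (hnorm : P ≤ normalizer ((kleinS4.map f : Subgroup G) : Set G)) :
    Klein P (kleinS4.map f) := by
  refine ⟨?_, fun _ ⟨k, _, e⟩ => e ▸ hP k, hnorm, ?_, ?_, ?_⟩
  · refine ⟨by rw [card_map_of_injective hf]; exact card_kleinS4, ?_⟩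
    haveI : Finite ↥(kleinS4.map f) := Nat.finite_of_card_ne_zero (by
      rw [card_map_of_injective hf, card_kleinS4]; omega)
    haveI : Nontrivial ↥(kleinS4.map f) := Finite.one_lt_card_iff_nontrivial.mp (by
      rw [card_map_of_injective hf, card_kleinS4]; omega)
    rw [Monoid.exponent_eq_prime_iff Nat.prime_two]
    rintro ⟨_, k, hk, rfl⟩ hne
    refine orderOf_eq_prime (hp := ⟨Nat.prime_two⟩) (Subtype.ext ?_) hne
    rw [SubmonoidClass.coe_pow, ← map_pow, sq, (mem_kleinS4.mp hk).1, map_one]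
    rfl
  · rintro _ ⟨k, hk, rfl⟩
    obtain ⟨s, rfl⟩ := kleinS4_square k hk
    exact ⟨f s, hP s, (map_mul f s s).symm⟩
  · rintro _ ⟨k, hk, rfl⟩
    obtain ⟨a, b, ha, hb, rfl⟩ := kleinS4_three k hk
    exact ⟨f a, hP a, f b, hP b, by rw [← map_pow, pow_three, ← mul_assoc, ha, map_one],
      by rw [← map_pow, pow_three, ← mul_assoc, hb, map_one], map_mul f a b⟩
  · rintro _ ⟨k, hk, rfl⟩ _ ⟨l, hl, rfl⟩ hk1 hl1
    obtain ⟨s, hs⟩ := kleinS4_transitive k hk l hl (fun e => hk1 (by rw [e, map_one]))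
      (fun e => hl1 (by rw [e, map_one]))
    exact ⟨f s, hP s, by rw [← map_inv, ← map_mul, ← map_mul, hs]⟩

/-- `P ≅ S₄`: its four-group is self-centralizing in it. -/
theorem exists_klein {P : Subgroup G} (e : ↥P ≃* Equiv.Perm (Fin 4)) :
    ∃ V : Subgroup G, Klein P V ∧ P ⊓ centralizer (V : Set G) ≤ V := by
  set f := P.subtype.comp e.symm.toMonoidHom with hf
  have hinj : Function.Injective f := P.subtype_injective.comp e.symm.injective
  have hsurj : ∀ p ∈ P, ∃ s, f s = p := fun p hp => ⟨e ⟨p, hp⟩, by simp [hf]⟩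
  refine ⟨kleinS4.map f, klein_of_injective f hinj (fun s => (e.symm s).2) ?_, ?_⟩
  · intro p hp
    obtain ⟨s, rfl⟩ := hsurj p hp
    rw [mem_normalizer_iff]
    intro x
    constructor
    · rintro ⟨k, hk, rfl⟩
      exact ⟨_, kleinS4_normal s k hk, by simp only [map_mul, map_inv]⟩
    · rintro ⟨k, hk, hk'⟩
      refine ⟨_, kleinS4_normal s⁻¹ k hk, ?_⟩
      rw [map_mul, map_mul, inv_inv, map_inv, hk']
      group
  · rintro p ⟨hp, hc⟩
    obtain ⟨s, rfl⟩ := hsurj p hp
    exact ⟨s, kleinS4_self s fun k hk => hinj (by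
      rw [map_mul, map_mul]; exact (mem_centralizer_iff.mp hc _ ⟨k, hk, rfl⟩).symm), rfl⟩

/-- What `P ≅ S₄ × Z₂` gives. -/
structure Central (P V : Subgroup G) (c : G) : Prop extends Klein P V where
  card : Nat.card P = 48
  mem : c ∈ P
  orderOf_eq : orderOf c = 2
  not_mem : c ∉ V
  comm : ∀ p ∈ P, p * c = c * p
  centralizer_le : ∀ p ∈ P, (∀ v ∈ V, p * v = v * p) → p ∈ V ∨ c * p ∈ V
  not_square : ∀ y ∈ P, y * y ≠ c

theorem exists_central {P : Subgroup G}
    (e : ↥P ≃* Equiv.Perm (Fin 4) × Multiplicative (ZMod 2)) :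
    ∃ (V : Subgroup G) (c : G), Central P V c := by
  set g := P.subtype.comp e.symm.toMonoidHom with hg
  set f := g.comp (MonoidHom.inl (Equiv.Perm (Fin 4)) (Multiplicative (ZMod 2))) with hf
  have ginj : Function.Injective g := P.subtype_injective.comp e.symm.injective
  have hinj : Function.Injective f := ginj.comp fun a b h => congrArg Prod.fst h
  have gsurj : ∀ p ∈ P, ∃ x, g x = p := fun p hp => ⟨e ⟨p, hp⟩, by simp [hg]⟩
  have hfx : ∀ s, f s = g (s, 1) := fun _ => rfl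
  set c := g (1, Multiplicative.ofAdd 1) with hc
  have hcomm : ∀ x, g x * c = c * g x := by
    rintro ⟨s, i⟩
    rw [hc, ← map_mul, ← map_mul, Prod.mk_mul_mk, Prod.mk_mul_mk, mul_one, one_mul, mul_comm i]
  have htwo : ∀ i : Multiplicative (ZMod 2), i = 1 ∨ i = Multiplicative.ofAdd 1 := by decide +kernel
  have hsplit : ∀ x : Equiv.Perm (Fin 4) × Multiplicative (ZMod 2),
      g x = f x.1 ∨ g x = c * f x.1 := by
    rintro ⟨s, i⟩
    rcases htwo i with rfl | rfl
    · exact Or.inl rfl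
    · right
      rw [hfx, hc, ← map_mul, Prod.mk_mul_mk, one_mul, mul_one]
  have hne : ∀ s, f s ≠ c := fun s h => by
    have h1 := congrArg Prod.snd (ginj h)
    exact absurd h1 (show (1 : Multiplicative (ZMod 2)) ≠ Multiplicative.ofAdd 1 by decide +kernel)
  have hcc : c * c = 1 := by
    rw [hc, ← map_mul, Prod.mk_mul_mk, mul_one,
      show (Multiplicative.ofAdd (1 : ZMod 2) * Multiplicative.ofAdd 1 : Multiplicative (ZMod 2)) = 1
        by decide +kernel]
    exact map_one g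
  have hc1 : c ≠ 1 := fun h => hne 1 (by rw [h, map_one])
  refine ⟨kleinS4.map f, c, ⟨klein_of_injective f hinj (fun s => (e.symm _).2) ?_, ?_, (e.symm _).2,
    orderOf_eq_prime (hp := ⟨Nat.prime_two⟩) (by rw [sq]; exact hcc) hc1, ?_, ?_, ?_, ?_⟩⟩
  · intro p hp
    obtain ⟨⟨s, i⟩, rfl⟩ := gsurj p hp
    rw [mem_normalizer_iff]
    intro x
    have key : ∀ (t : Equiv.Perm (Fin 4)) (j : Multiplicative (ZMod 2)), ∀ k ∈ kleinS4,
        g (t, j) * f k * (g (t, j))⁻¹ ∈ kleinS4.map f := by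
      intro t j k hk
      refine ⟨_, kleinS4_normal t k hk, ?_⟩
      simp only [hfx, ← map_inv, ← map_mul, Prod.inv_mk, Prod.mk_mul_mk, mul_one, mul_inv_cancel]
    constructor
    · rintro ⟨k, hk, rfl⟩
      exact key s i k hk
    · rintro ⟨k, hk, hk'⟩
      have := key s⁻¹ i⁻¹ k hk
      rw [hk', show ((s⁻¹, i⁻¹) : Equiv.Perm (Fin 4) × Multiplicative (ZMod 2)) = (s, i)⁻¹ from rfl,
        map_inv, inv_inv] at this
      rwa [show (g (s, i))⁻¹ * (g (s, i) * x * (g (s, i))⁻¹) * g (s, i) = x by group] at this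
  · rw [Nat.card_congr e.toEquiv, Nat.card_prod, Nat.card_perm, Nat.card_fin,
      Nat.card_congr Multiplicative.toAdd, Nat.card_zmod]
    rfl
  · rintro ⟨k, -, hk⟩
    exact hne k hk
  · intro p hp
    obtain ⟨x, rfl⟩ := gsurj p hp
    exact hcomm x
  · intro p hp hpc
    obtain ⟨x, rfl⟩ := gsurj p hp
    have hk : x.1 ∈ kleinS4 := kleinS4_self _ fun k hk => by
      have h := hpc (f k) ⟨k, hk, rfl⟩
      rw [hfx, ← map_mul, ← map_mul] at h
      exact congrArg Prod.fst (ginj h)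
    rcases hsplit x with h | h
    · exact Or.inl (h ▸ ⟨_, hk, rfl⟩)
    · refine Or.inr ?_
      rw [h, ← mul_assoc, hcc, one_mul]
      exact ⟨_, hk, rfl⟩
  · intro y hy
    obtain ⟨x, rfl⟩ := gsurj y hy
    rcases hsplit x with h | h
    · rw [h, ← map_mul]
      exact hne _
    · rw [h, show c * f x.1 * (c * f x.1) = c * (f x.1 * c) * f x.1 by group,
        show f x.1 * c = c * f x.1 from hcomm (x.1, 1), ← mul_assoc, hcc, one_mul, ← map_mul]
      exact hne _

end CfsgLib.ZCGroup
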