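import Cfsg.Agent.ZCGroup.TwoGroup
import Cfsg.Agent.S0505
import Cfsg.Agent.PLocal.Thompson

/-!
# The three cases of the reduction to characteristic two type

* `large_center`: `|Z| ≥ 4`.
* `small_rank`: `|Z| = 2` and the Sylow 2-subgroup has no elementary abelian subgroup of order 8.
* `large_rank`: `|Z| = 2` and it has one.
-/

set_option autoImplicit false
set_option linter.style.haveILetI false
set_option linter.unusedSectionVars false

namespace CfsgLib.ZCGroup

open Subgroup

variable {G : Type*} [Group G] [Finite G]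

/-- `Ω₁(Z(S))`. -/
abbrev zc (S : Sylow 2 G) : Subgroup G :=
  Cfsg.omegaOne 2 ((S : Subgroup G) ⊓ centralizer ((S : Subgroup G) : Set G))

theorem zc_le (S : Sylow 2 G) :
    zc S ≤ (S : Subgroup G) ⊓ centralizer ((S : Subgroup G) : Set G) :=
  CfsgLib.PLocal.omegaOne_le _ _

theorem zc_elementary (S : Sylow 2 G) : Cfsg.IsElementaryAbelian 2 (zc S) := by
  refine CfsgLib.PLocal.isElementaryAbelian_omegaOne ?_
  exact ⟨⟨fun a b => Subtype.ext (mem_centralizer_iff.mp b.2.2 _ a.2.1)⟩⟩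

theorem mem_zc (S : Sylow 2 G) {x : G} (hxS : x ∈ (S : Subgroup G))
    (hc : ∀ s ∈ (S : Subgroup G), s * x = x * s) (hx : x * x = 1) : x ∈ zc S :=
  CfsgLib.PLocal.mem_omegaOne ⟨hxS, mem_centralizer_iff.mpr hc⟩ (by rw [sq]; exact hx)

theorem zc_mul_self (S : Sylow 2 G) {x : G} (hx : x ∈ zc S) : x * x = 1 := by
  rw [← sq]; exact (zc_elementary S).2 x hx

theorem zc_comm (S : Sylow 2 G) {x : G} (hx : x ∈ zc S) {s : G} (hs : s ∈ (S : Subgroup G)) :
    s * x = x * s :=
  mem_centralizer_iff.mp (zc_le S hx).2 s hs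

/-- Trivial cores in a normal subgroup give characteristic two type. -/
theorem charTwoType_of_cores (hC : SolvableCentralizers G) (S : Sylow 2 G) (L : Subgroup G)
    [L.Normal] (hSL : (S : Subgroup G) ⊓ L ≠ ⊥)
    (h : ∀ t ∈ (S : Subgroup G) ⊓ L, orderOf t = 2 → core t = ⊥) :
    Cfsg.IsCharacteristicTwoType ↥L := by
  haveI : Fact (Nat.Prime 2) := ⟨Nat.prime_two⟩
  refine Cfsg.Agent.S0505.result ?_ (fun t ht => ?_) fun t ht => ?_
  · obtain ⟨n, hn⟩ := IsPGroup.iff_card.1 (S.isPGroup'.to_le (inf_le_left : (S : Subgroup G) ⊓ L ≤ _))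
    have hn0 : n ≠ 0 := fun e => hSL (eq_bot_of_card_eq _ (by rw [hn, e, pow_zero]))
    exact even_iff_two_dvd.2 ((hn ▸ dvd_pow_self 2 hn0).trans (card_dvd_of_le inf_le_right))
  · haveI := hC (t : G) (by rwa [Subgroup.orderOf_coe])
    let f : ↥(centralizer ({t} : Set L)) →* ↥(centralizer ({(t : G)} : Set G)) :=
      { toFun := fun c => ⟨((c : L) : G), mem_centralizer_singleton_iff.mpr
          (congrArg Subtype.val (mem_centralizer_singleton_iff.mp c.2))⟩
        map_one' := rfl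
        map_mul' := fun _ _ => rfl }
    exact Group.isSolvable_of_isSolvable_injective (f := f)
      fun a b e => Subtype.ext (Subtype.ext (congrArg Subtype.val e :))
  · have hto : orderOf (t : G) = 2 := by rwa [Subgroup.orderOf_coe]
    -- `t` is conjugate into `S ∩ L`
    have hcore : core (t : G) = ⊥ := by
      obtain ⟨Q, hQ⟩ := (isPGroup_zpowers_of_orderOf hto).exists_le_sylow
      obtain ⟨g, hg⟩ := MulAction.exists_smul_eq G S Q
      have h1 : (t : G) ∈ (g • S : Sylow 2 G) := hg.symm ▸ hQ (mem_zpowers _)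
      obtain ⟨s, hs, hst⟩ := h1
      have hst' : g * s * g⁻¹ = (t : G) := hst
      have hsL : s ∈ L := by
        have := (inferInstance : L.Normal).conj_mem _ t.2 g⁻¹
        rw [← hst', show g⁻¹ * (g * s * g⁻¹) * g⁻¹⁻¹ = s by group] at this
        exact this
      rw [← hst', core_conj, h s ⟨hs, hsL⟩ (by rw [← orderOf_conj g s, hst', hto]), Subgroup.map_bot]
    set K := centralizer ({(t : G)} : Set G) ⊓ L with hK
    have hmap : (centralizer ({t} : Set L)).map L.subtype = K := by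
      ext x
      constructor
      · rintro ⟨c, hc, rfl⟩
        exact ⟨mem_centralizer_singleton_iff.mpr
          (congrArg Subtype.val (mem_centralizer_singleton_iff.mp hc)), c.2⟩
      · rintro ⟨hx1, hx2⟩
        exact ⟨⟨x, hx2⟩, mem_centralizer_singleton_iff.mpr
          (Subtype.ext (mem_centralizer_singleton_iff.mp hx1)), rfl⟩
    have hKbot : CfsgLib.SolvSig.core' 2 K = ⊥ := by
      refine le_bot_iff.mp (hcore ▸ CfsgLib.SolvSig.le_core' (r := 2) ?_ ?_ ?_)
      · exact (map_subtype_le _).trans inf_le_left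
      · refine le_trans ?_ (CfsgLib.SolvSig.normalizer_le_normalizer_core' 2 K)
        intro c hc
        rw [mem_normalizer_iff]
        intro x
        have h1 := mem_normalizer_iff.mp (le_normalizer hc :
          c ∈ normalizer (centralizer ({(t : G)} : Set G) : Set G)) x
        have h2 : x ∈ L ↔ c * x * c⁻¹ ∈ L :=
          ⟨fun hx => (inferInstance : L.Normal).conj_mem _ hx c, fun hx => by
            simpa [mul_assoc] using (inferInstance : L.Normal).conj_mem _ hx c⁻¹⟩
        exact and_congr h1 h2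
      · exact CfsgLib.SolvSig.card_core'_coprime 2 K
    let e := ((centralizer ({t} : Set L)).equivMapOfInjective L.subtype L.subtype_injective).trans
      (MulEquiv.subgroupCongr hmap)
    have := CfsgLib.PLocal.map_pPrimeCore_equiv (p := 2) e
    rw [show Cfsg.pPrimeCore 2 ↥K = ⊥ from
      (Subgroup.map_eq_bot_iff_of_injective _ K.subtype_injective).mp hKbot] at this
    exact (Subgroup.map_eq_bot_iff_of_injective _ e.injective).mp this

/-- Two involutions of a cyclic subgroup are equal. -/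
theorem eq_of_orderOf_two_cyclic {P : Type*} [Group P] [Finite P] {B : Subgroup P}
    (hB : IsCyclic B) {x y : P} (hx : x ∈ B) (hy : y ∈ B) (hxo : orderOf x = 2)
    (hyo : orderOf y = 2) : x = y := by
  classical
  by_contra hne
  have h2 := CfsgLib.SubgroupCounts69.card_sq_le_two_of_cyclic (D := B)
  have hsq : ∀ {w : P} (hw : w ∈ B), orderOf w = 2 → (⟨w, hw⟩ : B) ^ 2 = 1 := fun hw ho =>
    Subtype.ext (by rw [SubmonoidClass.coe_pow, ← ho, pow_orderOf_eq_one]; rfl)
  haveI := Fintype.ofFinite B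
  let t : Finset {d : B // d ^ 2 = 1} :=
    {⟨1, one_pow 2⟩, ⟨⟨x, hx⟩, hsq hx hxo⟩, ⟨⟨y, hy⟩, hsq hy hyo⟩}
  have ht : t.card = 3 := by
    have hx1 := ne_one_of_orderOf hxo
    have hy1 := ne_one_of_orderOf hyo
    simp [t, Subtype.ext_iff, hne, hx1.symm, hy1.symm]
  have := Finset.card_le_univ t
  rw [ht, ← Nat.card_eq_fintype_card] at this
  omega

/-- A subgroup of order at least three has an element outside `{1, a}`. -/
theorem exists_second' {E : Subgroup G} (hE3 : 3 ≤ Nat.card E) (a : G) :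
    ∃ b ∈ E, b ≠ 1 ∧ b ≠ a := by
  classical
  by_contra hall
  push Not at hall
  have hle : (E : Set G).ncard ≤ 2 := by
    refine le_trans (Set.ncard_le_ncard (t := ({1, a} : Set G)) (fun b hb => ?_) (Set.toFinite _)) ?_
    · by_cases hb1 : b = 1
      · exact Or.inl hb1
      · exact Or.inr (hall b hb hb1)
    · exact (Set.ncard_insert_le _ _).trans (by rw [Set.ncard_singleton])
  rw [← Nat.card_coe_set_eq] at hle
  have : Nat.card E = Nat.card (E : Set G) := rfl
  omega

/-- `R = S ∩ O²(G)` is nontrivial. -/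
theorem inf_pResidual_ne_bot (hO' : Cfsg.pPrimeCore 2 G = ⊥) (hO : Cfsg.pCore 2 G = ⊥)
    (heven : Even (Nat.card G)) (S : Sylow 2 G) :
    (S : Subgroup G) ⊓ Cfsg.pResidual 2 G ≠ ⊥ := by
  haveI : Fact (Nat.Prime 2) := ⟨Nat.prime_two⟩
  intro h
  haveI : (Cfsg.pResidual 2 G).Normal := inferInstance
  have h1 := CfsgLib.Transfer.not_dvd_card_of_sylow_inf_eq_bot S (Cfsg.pResidual 2 G) h
  have h2 : Cfsg.pResidual 2 G = ⊥ :=
    le_bot_iff.mp (hO' ▸ CfsgLib.PLocal.le_pPrimeCore (CfsgLib.PLocal.not_dvd_iff_coprime.mpr h1))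
  have h3 : (S : Subgroup G) = ⊤ := by
    have := CfsgLib.Transfer.sylow_sup_pResidual S
    rwa [h2, sup_bot_eq] at this
  have h4 : Cfsg.pCore 2 G = ⊤ := top_unique
    (CfsgLib.PLocal.le_pCore (N := ⊤) (h3 ▸ S.isPGroup'))
  rw [hO] at h4
  have h5 : Nat.card G = 1 := by
    rw [← Subgroup.card_top (G := G), ← h4, Subgroup.card_bot]
  rw [h5] at heven
  exact absurd heven (by decide)

/-- The involution of `Z ∩ R`. -/
theorem exists_mem_zc_pResidual (S : Sylow 2 G)
    (hR : (S : Subgroup G) ⊓ Cfsg.pResidual 2 G ≠ ⊥) :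
    ∃ z ∈ zc S, z ∈ Cfsg.pResidual 2 G ∧ orderOf z = 2 := by
  haveI : (Cfsg.pResidual 2 G).Normal := inferInstance
  obtain ⟨z, hzR, hzc, hz⟩ := CfsgLib.Small.exists_central_invol_mem (G := ↥(S : Subgroup G))
    S.isPGroup' ((Cfsg.pResidual 2 G).subgroupOf (S : Subgroup G)) (by
      rwa [Ne, subgroupOf_eq_bot, disjoint_iff, inf_comm])
  refine ⟨z, mem_zc S z.2 (fun s hs => ?_) (mul_self_of_orderOf (by rwa [Subgroup.orderOf_coe])),
    hzR, by rwa [Subgroup.orderOf_coe]⟩
  exact congrArg Subtype.val (mem_center_iff.mp hzc ⟨s, hs⟩)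

/-- The conclusion when `|Z| ≥ 4`. -/
theorem large_center (hC : SolvableCentralizers G) (hO' : Cfsg.pPrimeCore 2 G = ⊥) (S : Sylow 2 G)
    {z r : G} (hzZ : z ∈ zc S) (hzH : z ∈ Cfsg.pResidual 2 G) (hz : orderOf z = 2)
    (hr : r ∈ (S : Subgroup G) ⊓ Cfsg.pResidual 2 G) (hro : orderOf r = 2) (hrz : r ≠ z)
    (h4 : 4 ≤ Nat.card ↥(zc S)) :
    (∃ M : Subgroup ↥(Cfsg.pResidual 2 G), Cfsg.IsStronglyEmbedded M) ∨
    (Nat.card ↥(zc S) = 4 ∧
      Cfsg.omegaOne 2 ((S : Subgroup G) ⊓ Cfsg.pResidual 2 G) = zc S) ∨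
    (∀ t ∈ (S : Subgroup G), orderOf t = 2 → core t = ⊥) := by
  haveI : Fact (Nat.Prime 2) := ⟨Nat.prime_two⟩
  have hzS : z ∈ (S : Subgroup G) := (zc_le S hzZ).1
  obtain ⟨b, hbZ, hb1, hbz⟩ := exists_second' (by omega : 3 ≤ Nat.card ↥(zc S)) z
  have hb : orderOf b = 2 := orderOf_eq_two (zc_mul_self S hbZ) hb1
  have hzb : z * b = b * z := zc_comm S hbZ hzS
  set F := CfsgLib.Classification.fourSpan z b (mul_self_of_orderOf hz) (mul_self_of_orderOf hb) hzb
  have hF : IsKleinFour F := CfsgLib.Classification.isKleinFour_fourSpan _ _ _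
    (ne_one_of_orderOf hz) hb1 (Ne.symm hbz)
  have hFZ : F ≤ zc S := by
    intro x hx
    rcases CfsgLib.Classification.mem_fourSpan.mp hx with rfl | rfl | rfl | rfl
    exacts [one_mem _, hzZ, hbZ, mul_mem hzZ hbZ]
  by_cases hextra : 4 < Nat.card ↥(zc S) ∨ ∃ s ∈ (S : Subgroup G), orderOf s = 2 ∧ s ∉ zc S
  swap
  · push Not at hextra
    have hcard : Nat.card ↥(zc S) = 4 := le_antisymm hextra.1 h4
    refine Or.inr (Or.inl ⟨hcard, ?_⟩)
    have hle : Cfsg.omegaOne 2 ((S : Subgroup G) ⊓ Cfsg.pResidual 2 G) ≤ zc S := by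
      refine (closure_le _).mpr fun x hx => ?_
      by_cases hx1 : x = 1
      · exact hx1 ▸ one_mem _
      · exact hextra.2 x hx.1.1 (orderOf_eq_two (by rw [← sq]; exact hx.2) hx1)
    refine le_antisymm hle ?_
    have hrZ : r ∈ zc S := hextra.2 r hr.1 hro
    have hzr : z * r = r * z := zc_comm S hrZ hzS
    set F' := CfsgLib.Classification.fourSpan z r (mul_self_of_orderOf hz)
      (mul_self_of_orderOf hro) hzr
    have hF' : IsKleinFour F' := CfsgLib.Classification.isKleinFour_fourSpan _ _ _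
      (ne_one_of_orderOf hz) (ne_one_of_orderOf hro) (Ne.symm hrz)
    have hF'le : F' ≤ Cfsg.omegaOne 2 ((S : Subgroup G) ⊓ Cfsg.pResidual 2 G) := by
      intro x hx
      refine CfsgLib.PLocal.mem_omegaOne ?_
        (by rw [sq]; exact CfsgLib.Classification.sq_eq_one_of_isKleinFour hF' hx)
      rcases CfsgLib.Classification.mem_fourSpan.mp hx with rfl | rfl | rfl | rfl
      exacts [one_mem _, ⟨hzS, hzH⟩, hr, mul_mem ⟨hzS, hzH⟩ hr]
    have := eq_of_le_of_card_ge (hF'le.trans hle) (by rw [hcard, hF'.card_four])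
    exact this.ge.trans hF'le
  obtain ⟨E, hE, hE8, hEF⟩ : ∃ E : Subgroup G, Cfsg.IsElementaryAbelian 2 E ∧ 4 < Nat.card E ∧
      ∀ f ∈ F, ∀ e ∈ E, f * e = e * f := by
    rcases hextra with h | ⟨s, hsS, hso, hsZ⟩
    · exact ⟨zc S, zc_elementary S, h, fun f hf e he => zc_comm S he (zc_le S (hFZ hf)).1⟩
    · obtain ⟨E, hE, h8, hES, -⟩ := exists_elementary_eight (K := (S : Subgroup G)) hz hb hso
        (Ne.symm hbz) hzS (zc_le S hbZ).1 hsS hzb (zc_comm S hzZ hsS).symm
        (zc_comm S hbZ hsS).symm (fun e => hsZ (e ▸ hzZ)) (fun e => hsZ (e ▸ hbZ))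
        (fun e => hsZ (e ▸ mul_mem hzZ hbZ))
      exact ⟨E, hE, h8, fun f hf e he => (zc_comm S (hFZ hf) (hES he)).symm⟩
  have hWodd : Odd (Nat.card (cl F)) := closure_odd hC hF hE hE8 hEF
  have hcore : ∀ t ∈ (S : Subgroup G), orderOf t = 2 → core t ≤ cl F := fun t ht hto =>
    core_le_closure hC hF hto fun f hf => (zc_comm S (hFZ hf) ht).symm
  have hlink : ∀ g : G, (∀ x ∈ F, ∀ y ∈ F, Commute (g * x * g⁻¹) y) →
      g ∈ normalizer (cl F : Set G) := by
    intro g hg
    rw [← mul_mem_map_conj_iff, ← closure_conj]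
    refine closure_eq_of_commute hC
      (CfsgLib.Classification.isKleinFour_map _ (MulAut.conj g).injective hF) hF ?_
    rintro _ ⟨x, hx, rfl⟩ y hy
    exact (hg x hx y hy).eq
  have hFS : F ≤ (S : Subgroup G) ⊓ centralizer ((S : Subgroup G) : Set G) := hFZ.trans (zc_le S)
  have hS : (S : Subgroup G) ≤ normalizer (cl F : Set G) := fun s hs => hlink s fun x hx y hy => by
    rw [(zc_comm S (hFZ hx) hs), mul_inv_cancel_right]
    exact (zc_comm S (hFZ hy) (zc_le S (hFZ hx)).1)
  have hzr : z * r = r * z := (zc_comm S hzZ hr.1).symm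
  set F' := CfsgLib.Classification.fourSpan z r (mul_self_of_orderOf hz)
    (mul_self_of_orderOf hro) hzr
  have hF' : IsKleinFour F' := CfsgLib.Classification.isKleinFour_fourSpan _ _ _
    (ne_one_of_orderOf hz) (ne_one_of_orderOf hro) (Ne.symm hrz)
  have hF'R : F' ≤ (S : Subgroup G) ⊓ Cfsg.pResidual 2 G := by
    intro x hx
    rcases CfsgLib.Classification.mem_fourSpan.mp hx with rfl | rfl | rfl | rfl
    exacts [one_mem _, ⟨hzS, hzH⟩, hr, mul_mem ⟨hzS, hzH⟩ hr]
  have hR : (S : Subgroup G) ⊓ Cfsg.pResidual 2 G ≠ ⊥ := fun e =>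
    ne_one_of_orderOf hro (by rw [e, mem_bot] at hr; exact hr)
  refine (embedded_or_eq_bot hO' S hR hWodd hS ?_ ?_).imp id fun hW => Or.inr fun t ht hto =>
    le_bot_iff.mp ((hcore t ht hto).trans hW.le)
  · intro g _ hg
    rw [← mul_mem_map_conj_iff, ← closure_conj]
    have hFc : cl F = cl F' := closure_eq_of_commute hC hF hF' fun a ha b hb =>
      (zc_comm S (hFZ ha) (hF'R hb).1).symm
    refine (closure_eq_of_commute hC
      (CfsgLib.Classification.isKleinFour_map _ (MulAut.conj g).injective hF) hF' ?_).trans hFc.symm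
    rintro _ ⟨a, ha, rfl⟩ c hc
    have hc' : g⁻¹ * c * g ∈ (S : Subgroup G) ⊓ Cfsg.pResidual 2 G :=
      (mem_normalizer_iff.mp hg _).mpr (by simpa [mul_assoc] using hF'R hc)
    have h1 : Commute a (g⁻¹ * c * g) := (zc_comm S (hFZ ha) hc'.1).symm
    have h2 := h1.map (MulAut.conj g).toMonoidHom
    simpa [mul_assoc] using h2.eq
  · intro t ht hto c hc
    obtain ⟨n, hn, k, hk, rfl⟩ :=
      (centralizer_le_normalizer_mul hC S hFS hlink ht.1 hto).1 c hc
    exact mul_mem hn (le_normalizer (hcore t ht.1 hto hk))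

/-- An elementary abelian subgroup of a 2-group with a cyclic subgroup of index two is small. -/
theorem card_le_four_of_cyclicHalf {K E : Subgroup G} (h : HasCyclicHalf ↥K) (hEK : E ≤ K)
    (hE : Cfsg.IsElementaryAbelian 2 E) : Nat.card E ≤ 4 := by
  obtain ⟨B, hB, hpair⟩ := h
  set E' := E.subgroupOf K with hE'
  rw [← Nat.card_congr (subgroupOfEquivOfLe hEK).toEquiv]
  have hinf : Nat.card ↥(E' ⊓ B) ≤ 2 := by
    haveI : IsCyclic ↥(E' ⊓ B) :=
      isCyclic_of_injective (inclusion (inf_le_right : E' ⊓ B ≤ B)) (inclusion_injective _)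
    refine le_trans (le_of_eq ?_) (CfsgLib.SubgroupCounts69.card_sq_le_two_of_cyclic
      (D := ↥(E' ⊓ B)))
    exact (Nat.card_congr (Equiv.subtypeUnivEquiv fun d => by
      refine Subtype.ext (Subtype.ext ?_)
      exact hE.2 _ d.2.1)).symm
  have hidx : ((E' ⊓ B).subgroupOf E').index ≤ 2 := by
    by_cases hle : E' ≤ B
    · rw [inf_eq_left.mpr hle, subgroupOf_self, index_top]; omega
    obtain ⟨a, haE, haB⟩ := SetLike.not_le_iff_exists.mp hle
    refine le_of_eq (index_eq_two_iff.mpr ⟨⟨a, haE⟩, fun b => ?_⟩)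
    simp only [mem_subgroupOf, Subgroup.coe_mul, mem_inf]
    by_cases hb : (b : K) ∈ B
    · refine Or.inr ⟨⟨b.2, hb⟩, fun h => haB ?_⟩
      simpa using B.mul_mem (B.inv_mem hb) h.2
    · exact Or.inl ⟨⟨E'.mul_mem b.2 haE, hpair _ _ hb haB⟩, fun h => hb h.2⟩
  have := card_mul_index ((E' ⊓ B).subgroupOf E')
  rw [Nat.card_congr (subgroupOfEquivOfLe (inf_le_left : E' ⊓ B ≤ E')).toEquiv] at this
  rw [← this]
  exact Nat.mul_le_mul hinf hidx

/-- A single involution of `Z`: the standing facts. -/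
structure OneCentral (S : Sylow 2 G) (z : G) : Prop where
  orderOf_eq : orderOf z = 2
  mem : z ∈ (S : Subgroup G)
  mem_res : z ∈ Cfsg.pResidual 2 G
  comm : ∀ s ∈ (S : Subgroup G), s * z = z * s
  unique : ∀ x ∈ (S : Subgroup G), orderOf x = 2 → (∀ s ∈ (S : Subgroup G), s * x = x * s) → x = z
  centralizer_le : centralizer ({z} : Set G) ≤ normalizer ((S : Subgroup G) : Set G)

theorem OneCentral.zpowers_le {S : Sylow 2 G} {z : G} (d : OneCentral S z) :
    zpowers z ≤ (S : Subgroup G) ⊓ centralizer ((S : Subgroup G) : Set G) :=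
  Subgroup.zpowers_le.mpr ⟨d.mem, mem_centralizer_iff.mpr d.comm⟩

/-- A normal four-group of `S` is generated by `z` and an involution `e`. -/
theorem exists_normal_four_pair {S : Sylow 2 G} {z : G} (d : OneCentral S z)
    (h : CfsgLib.SubgroupCounts69.HasFour ↥(S : Subgroup G)) :
    ∃ e ∈ (S : Subgroup G), orderOf e = 2 ∧ e ≠ z ∧
      (∀ s ∈ (S : Subgroup G), s * e * s⁻¹ = e ∨ s * e * s⁻¹ = z * e) ∧ True := by
  haveI : Fact (Nat.Prime 2) := ⟨Nat.prime_two⟩
  obtain ⟨U, hUn, hU4, hU2⟩ := h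
  haveI := hUn
  obtain ⟨v, hvU, hvc, hv⟩ := CfsgLib.Small.exists_central_invol_mem (G := ↥(S : Subgroup G))
    S.isPGroup' U (fun e => by rw [e, card_bot] at hU4; omega)
  have hvz : (v : G) = z := d.unique v v.2 (by rwa [Subgroup.orderOf_coe]) fun s hs =>
    congrArg Subtype.val (mem_center_iff.mp hvc ⟨s, hs⟩)
  set U' := U.map (S : Subgroup G).subtype with hU'
  have hU'4 : Nat.card U' = 4 := by
    rw [hU', card_map_of_injective (subtype_injective _)]; exact hU4
  have hzU : z ∈ U' := ⟨v, hvU, hvz⟩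
  obtain ⟨e, heU, he1, hez⟩ := exists_second' (by omega : 3 ≤ Nat.card U') z
  have hsqU : ∀ x ∈ U', x * x = 1 := by
    rintro _ ⟨x, hx, rfl⟩
    rw [← map_mul, ← sq, hU2 x hx, map_one]
  have heS : e ∈ (S : Subgroup G) := map_subtype_le U heU
  have heo : orderOf e = 2 := orderOf_eq_two (hsqU e heU) he1
  have hze : z * e = e * z := (d.comm e heS).symm
  refine ⟨e, heS, heo, hez, fun s hs => ?_, trivial⟩
  have hsU : s * e * s⁻¹ ∈ U' := by
    obtain ⟨x, hx, rfl⟩ := heU
    exact ⟨_, hUn.conj_mem x hx ⟨s, hs⟩, rfl⟩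
  have hF := CfsgLib.Classification.isKleinFour_fourSpan (mul_self_of_orderOf d.orderOf_eq)
    (mul_self_of_orderOf heo) hze (ne_one_of_orderOf d.orderOf_eq) he1 (Ne.symm hez)
  have hle : CfsgLib.Classification.fourSpan z e (mul_self_of_orderOf d.orderOf_eq)
      (mul_self_of_orderOf heo) hze ≤ U' := by
    intro x hx
    rcases CfsgLib.Classification.mem_fourSpan.mp hx with rfl | rfl | rfl | rfl
    exacts [one_mem _, hzU, heU, mul_mem hzU heU]
  rw [← eq_of_le_of_card_ge hle (by rw [hU'4, hF.card_four])] at hsU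
  rcases CfsgLib.Classification.mem_fourSpan.mp hsU with h | h | h | h
  · rw [mul_inv_eq_one, mul_eq_left] at h
    exact absurd h he1
  · refine absurd ?_ hez
    calc e = s⁻¹ * (s * e * s⁻¹) * s := by group
      _ = s⁻¹ * (z * s) := by rw [h, mul_assoc]
      _ = z := by rw [← d.comm s hs, inv_mul_cancel_left]
  · exact Or.inl h
  · exact Or.inr h

theorem mul_mem_centralizer_of_pair {S : Sylow 2 G} {z e : G} (d : OneCentral S z)
    (heS : e ∈ (S : Subgroup G)) (_heo : orderOf e = 2) (_hez : e ≠ z)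
    (hconj : ∀ s ∈ (S : Subgroup G), s * e * s⁻¹ = e ∨ s * e * s⁻¹ = z * e) :
    ∀ a ∈ (S : Subgroup G), ∀ b ∈ (S : Subgroup G), a ∉ centralizer ({e} : Set G) →
      b ∉ centralizer ({e} : Set G) → a * b ∈ centralizer ({e} : Set G) := by
  intro a ha b hb haC hbC
  have hne : ∀ s ∈ (S : Subgroup G), s ∉ centralizer ({e} : Set G) → s * e * s⁻¹ = z * e :=
    fun s hs hsC => (hconj s hs).resolve_left fun h =>
      hsC (mem_centralizer_singleton_iff.mpr (mul_inv_eq_iff_eq_mul.mp h))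
  refine mem_centralizer_singleton_iff.mpr (mul_inv_eq_iff_eq_mul.mp ?_)
  calc a * b * e * (a * b)⁻¹ = a * (b * e * b⁻¹) * a⁻¹ := by group
    _ = (a * z * a⁻¹) * (a * e * a⁻¹) := by rw [hne b hb hbC]; group
    _ = z * (z * e) := by rw [hne a ha haC, d.comm a ha, mul_inv_cancel_right]
    _ = e := by rw [← mul_assoc, mul_self_of_orderOf d.orderOf_eq, one_mul]

theorem mul_self_mem_of_pair {S : Sylow 2 G} {B : Subgroup G}
    (hpair : ∀ a ∈ (S : Subgroup G), ∀ b ∈ (S : Subgroup G), a ∉ B → b ∉ B → a * b ∈ B)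
    {s : G} (hs : s ∈ (S : Subgroup G)) : s * s ∈ B := by
  by_cases h : s ∈ B
  · exact B.mul_mem h h
  · exact hpair s hs s hs h h

/-- A conjugate of `z` with centralizer of order four in `S` gives a cyclic half. -/
theorem hasCyclicHalf_of_centralizer {S : Sylow 2 G} {z g : G} (d : OneCentral S z)
    (hu : g * z * g⁻¹ ∈ (S : Subgroup G)) (hne : g * z * g⁻¹ ≠ z) {B : Subgroup G} (hzB : z ∈ B)
    (hsq : ∀ s ∈ (S : Subgroup G), s * s ∈ B) (huB : g * z * g⁻¹ ∉ B)
    (hrank : ∀ q ∈ (S : Subgroup G), orderOf q = 2 → q * (g * z * g⁻¹) = g * z * g⁻¹ * q →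
      q = z ∨ q = g * z * g⁻¹ ∨ q = z * (g * z * g⁻¹)) :
    HasCyclicHalf ↥(S : Subgroup G) := by
  have h4 := card_inf_centralizer_eq_four S d.orderOf_eq d.mem d.comm d.unique d.centralizer_le
    hzB hsq hu hne huB hrank
  set u := g * z * g⁻¹ with hudef
  have hmap : (centralizer ({(⟨u, hu⟩ : ↥(S : Subgroup G))} : Set ↥(S : Subgroup G))).map
      (S : Subgroup G).subtype = (S : Subgroup G) ⊓ centralizer ({u} : Set G) := by
    ext x
    constructor
    · rintro ⟨c, hc, rfl⟩
      exact ⟨c.2, mem_centralizer_singleton_iff.mpr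
        (congrArg Subtype.val (mem_centralizer_singleton_iff.mp hc))⟩
    · rintro ⟨hx1, hx2⟩
      exact ⟨⟨x, hx1⟩, mem_centralizer_singleton_iff.mpr
        (Subtype.ext (mem_centralizer_singleton_iff.mp hx2)), rfl⟩
  rw [← hmap, card_map_of_injective (subtype_injective _)] at h4
  rcases CfsgLib.Inv53.dihedral_quasi_or_four S.isPGroup' _
    (by rw [← Subgroup.orderOf_coe]; exact (orderOf_conj g z).trans d.orderOf_eq) h4 with
    ⟨n, ⟨e⟩⟩ | hq | hcard
  · exact hasCyclicHalf_of_dihedral e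
  · exact hasCyclicHalf_of_quasiDihedral hq
  · refine absurd (d.unique u hu ((orderOf_conj g z).trans d.orderOf_eq) fun s hs => ?_) hne
    have htop := eq_top_of_card_eq _ (h4.trans hcard.symm)
    have h5 : (⟨s, hs⟩ : ↥(S : Subgroup G)) ∈
        centralizer ({(⟨u, hu⟩ : ↥(S : Subgroup G))} : Set ↥(S : Subgroup G)) := htop.ge (mem_top _)
    have h6 := mem_centralizer_singleton_iff.mp h5
    exact congrArg Subtype.val h6

/-- Without elementary groups of order eight. -/
theorem small_rank (hC : SolvableCentralizers G) (hO' : Cfsg.pPrimeCore 2 G = ⊥) (S : Sylow 2 G)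
    {z g : G} (d : OneCentral S z) (hu : g * z * g⁻¹ ∈ (S : Subgroup G)) (hne : g * z * g⁻¹ ≠ z)
    (hsmall : ∀ E : Subgroup G, E ≤ (S : Subgroup G) → Cfsg.IsElementaryAbelian 2 E →
      Nat.card E ≤ 4) :
    (∃ M : Subgroup ↥(Cfsg.pResidual 2 G), Cfsg.IsStronglyEmbedded M) ∨
    (∀ t ∈ (S : Subgroup G) ⊓ Cfsg.pResidual 2 G, orderOf t = 2 → core t = ⊥) := by
  haveI : Fact (Nat.Prime 2) := ⟨Nat.prime_two⟩
  have hz := d.orderOf_eq
  -- `O(C(z))` centralizes `S`
  have hcent : ∀ s ∈ (S : Subgroup G), ∀ k ∈ core z, k * s = s * k := by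
    intro s hs k hk
    have h1 : k * s * k⁻¹ * s⁻¹ ∈ (S : Subgroup G) :=
      mul_mem ((mem_normalizer_iff.mp (d.centralizer_le (core_le_centralizer z hk)) s).mp hs)
        (inv_mem hs)
    have h2 : k * s * k⁻¹ * s⁻¹ ∈ core z := by
      rw [show k * s * k⁻¹ * s⁻¹ = k * (s * k⁻¹ * s⁻¹) by group]
      refine mul_mem hk ((mem_normalizer_iff.mp (centralizer_le_normalizer_core z
        (mem_centralizer_singleton_iff.mpr (d.comm s hs))) _).mp (inv_mem hk))
    have h3 : (S : Subgroup G) ⊓ core z = ⊥ :=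
      CfsgLib.PLocal.disjoint_of_isPGroup_of_coprime S.isPGroup'
        (Nat.coprime_two_right.mpr (core_odd z))
    have h4 : k * s * k⁻¹ * s⁻¹ ∈ (⊥ : Subgroup G) := h3 ▸ ⟨h1, h2⟩
    rw [mem_bot, mul_inv_eq_one, mul_inv_eq_iff_eq_mul] at h4
    exact h4
  have hD : ∀ a : G, a * z * a⁻¹ ∈ (S : Subgroup G) → core (a * z * a⁻¹) = core z := by
    intro a ha
    have hle : core z ≤ core (a * z * a⁻¹) := fun k hk =>
      core_inf_le hC hz ((orderOf_conj a z).trans hz) (d.comm _ ha).symm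
        ⟨hk, mem_centralizer_singleton_iff.mpr (hcent _ ha k hk)⟩
    refine (eq_of_le_of_card_ge hle ?_).symm
    rw [core_conj, card_map_of_injective (MulAut.conj a).injective]
  -- a subgroup `B` of index two whose involutions are conjugates of `z`
  obtain ⟨B, hBpair, hBinv⟩ : ∃ B : Subgroup G,
      (∀ a ∈ (S : Subgroup G), ∀ b ∈ (S : Subgroup G), a ∉ B → b ∉ B → a * b ∈ B) ∧
      ∀ q ∈ (S : Subgroup G), q ∈ B → orderOf q = 2 → ∃ a, a * z * a⁻¹ = q := by
    have hcyc : HasCyclicHalf ↥(S : Subgroup G) → ∃ B : Subgroup G,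
        (∀ a ∈ (S : Subgroup G), ∀ b ∈ (S : Subgroup G), a ∉ B → b ∉ B → a * b ∈ B) ∧
        ∀ q ∈ (S : Subgroup G), q ∈ B → orderOf q = 2 → ∃ a, a * z * a⁻¹ = q := by
      rintro ⟨B, hB, hpair⟩
      refine ⟨B.map (S : Subgroup G).subtype, fun a ha b hb haB hbB => ?_, fun q hq hqB hqo => ?_⟩
      · exact ⟨_, hpair ⟨a, ha⟩ ⟨b, hb⟩ (fun h => haB ⟨_, h, rfl⟩) (fun h => hbB ⟨_, h, rfl⟩), rfl⟩
      · obtain ⟨⟨q, hqS⟩, hqB', rfl⟩ := hqB
        suffices hq1 : q = z from ⟨1, by rw [one_mul, inv_one, mul_one]; exact hq1.symm⟩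
        refine d.unique q hqS hqo fun s hs => ?_
        have hconj : (⟨s, hs⟩ : ↥(S : Subgroup G)) * ⟨q, hqS⟩ * (⟨s, hs⟩)⁻¹ ∈ B := by
          by_cases hsB : (⟨s, hs⟩ : ↥(S : Subgroup G)) ∈ B
          · exact B.mul_mem (B.mul_mem hsB hqB') (B.inv_mem hsB)
          · refine hpair _ _ (fun h => hsB ?_) fun h => hsB (by simpa using B.inv_mem h)
            have h7 := B.mul_mem h (B.inv_mem hqB')
            rwa [mul_inv_cancel_right] at h7
        have hqo' : orderOf (⟨q, hqS⟩ : ↥(S : Subgroup G)) = 2 := by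
          rw [← Subgroup.orderOf_coe]; exact hqo
        have := eq_of_orderOf_two_cyclic hB hconj hqB'
          ((orderOf_conj _ _).trans hqo') hqo'
        exact mul_inv_eq_iff_eq_mul.mp (congrArg Subtype.val this)
    by_cases h4 : CfsgLib.SubgroupCounts69.HasFour ↥(S : Subgroup G)
    swap
    · exact hcyc (hasCyclicHalf_of_no_four S.isPGroup' h4)
    obtain ⟨e, heS, heo, hez, hconj, -⟩ := exists_normal_four_pair d h4
    have hzeo : z * e = e * z := (d.comm e heS).symm
    have hpair' := mul_mem_centralizer_of_pair d heS heo hez hconj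
    have hine : ∀ q ∈ (S : Subgroup G), orderOf q = 2 → q * e = e * q →
        q = z ∨ q = e ∨ q = z * e := by
      intro q hq hqo hqe
      by_contra hcon
      push Not at hcon
      obtain ⟨E, hE, h8, hES, -⟩ := exists_elementary_eight (K := (S : Subgroup G)) hz heo hqo
        (Ne.symm hez) d.mem heS hq hzeo (d.comm q hq).symm hqe.symm hcon.1 hcon.2.1 hcon.2.2
      have := hsmall E hES hE
      omega
    by_cases hu' : g * z * g⁻¹ * e = e * (g * z * g⁻¹)
    · refine ⟨centralizer {e}, hpair', fun q hq hqB hqo => ?_⟩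
      obtain ⟨s, hs, hse⟩ : ∃ s ∈ (S : Subgroup G), s * e * s⁻¹ = z * e := by
        by_contra hall
        push Not at hall
        exact hez (d.unique e heS heo fun s hs =>
          mul_inv_eq_iff_eq_mul.mp ((hconj s hs).resolve_right (hall s hs)))
      have hE : ∃ a, a * z * a⁻¹ = e := by
        rcases hine _ hu ((orderOf_conj g z).trans hz) hu' with h | h | h
        · exact absurd h hne
        · exact ⟨g, h⟩
        · refine ⟨s⁻¹ * g, ?_⟩
          calc s⁻¹ * g * z * (s⁻¹ * g)⁻¹ = s⁻¹ * (g * z * g⁻¹) * s := by group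
            _ = s⁻¹ * (s * e * s⁻¹) * s := by rw [h, hse]
            _ = e := by group
      rcases hine q hq hqo (mem_centralizer_singleton_iff.mp hqB) with rfl | rfl | rfl
      · exact ⟨1, by simp⟩
      · exact hE
      · obtain ⟨a, ha⟩ := hE
        exact ⟨s * a, by rw [← hse, ← ha]; group⟩
    · refine hcyc ?_
      refine hasCyclicHalf_of_centralizer d hu hne (B := centralizer {e})
        (mem_centralizer_singleton_iff.mpr hzeo) (fun s hs => mul_self_mem_of_pair hpair' hs)
        (fun h => hu' (mem_centralizer_singleton_iff.mp h)) fun q hq hqo hqu => ?_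
      by_contra hcon
      push Not at hcon
      obtain ⟨E, hE, h8, hES, -⟩ := exists_elementary_eight (K := (S : Subgroup G)) hz
        ((orderOf_conj g z).trans hz) hqo (Ne.symm hne) d.mem hu hq (d.comm _ hu).symm
        (d.comm q hq).symm hqu.symm hcon.1 hcon.2.1 hcon.2.2
      have := hsmall E hES hE
      omega
  -- every involution of `R` is a conjugate of `z`
  have hall : ∀ t ∈ (S : Subgroup G) ⊓ Cfsg.pResidual 2 G, orderOf t = 2 →
      ∃ a, a * z * a⁻¹ = t := by
    intro t ht hto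
    obtain ⟨h, -, hh⟩ := exists_conj_mem S B (fun a ha b hb => hBpair a ha.1 b hb.1) ht hto
    obtain ⟨a, ha⟩ := hBinv _ hh.1.1 hh.2
      (by have := orderOf_conj h⁻¹ t; rwa [inv_inv, hto] at this)
    exact ⟨h * a, by
      calc h * a * z * (h * a)⁻¹ = h * (a * z * a⁻¹) * h⁻¹ := by group
        _ = t := by rw [ha]; group⟩
  have hcore : ∀ t ∈ (S : Subgroup G) ⊓ Cfsg.pResidual 2 G, orderOf t = 2 → core t = core z := by
    intro t ht hto
    obtain ⟨a, rfl⟩ := hall t ht hto
    exact hD a ht.1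
  have hR : (S : Subgroup G) ⊓ Cfsg.pResidual 2 G ≠ ⊥ := fun e => ne_one_of_orderOf hz (by
    have h : z ∈ (S : Subgroup G) ⊓ Cfsg.pResidual 2 G := ⟨d.mem, d.mem_res⟩
    rwa [e, mem_bot] at h)
  refine (embedded_or_eq_bot hO' S hR (core_odd z) ?_ ?_ ?_).imp id fun hW t ht hto =>
    (hcore t ht hto).trans hW
  · exact fun s hs => centralizer_le_normalizer_core z
      (mem_centralizer_singleton_iff.mpr (d.comm s hs))
  · intro a _ ha
    rw [← mul_mem_map_conj_iff, ← core_conj]
    exact hD a ((mem_normalizer_iff.mp ha z).mp ⟨d.mem, d.mem_res⟩).1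
  · intro t ht hto
    rw [← hcore t ht hto]
    exact centralizer_le_normalizer_core t

/-- With an elementary group of order eight. -/
theorem large_rank (hC : SolvableCentralizers G) (hO' : Cfsg.pPrimeCore 2 G = ⊥) (S : Sylow 2 G)
    {z : G} (d : OneCentral S z) {E₀ : Subgroup G} (hE₀S : E₀ ≤ (S : Subgroup G))
    (hE₀ : Cfsg.IsElementaryAbelian 2 E₀) (hE₀8 : 4 < Nat.card E₀) :
    (∃ M : Subgroup ↥(Cfsg.pResidual 2 G), Cfsg.IsStronglyEmbedded M) ∨
    (∀ t ∈ (S : Subgroup G) ⊓ Cfsg.pResidual 2 G, orderOf t = 2 → core t = ⊥) := by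
  haveI : Fact (Nat.Prime 2) := ⟨Nat.prime_two⟩
  have hz := d.orderOf_eq
  have hnohalf : ¬ HasCyclicHalf ↥(S : Subgroup G) := fun h => by
    have := card_le_four_of_cyclicHalf h hE₀S hE₀
    omega
  obtain ⟨e, heS, heo, hez, hconj, -⟩ := exists_normal_four_pair d (by
    by_contra h
    exact hnohalf (hasCyclicHalf_of_no_four S.isPGroup' h))
  have hzeo : z * e = e * z := (d.comm e heS).symm
  have hpair' := mul_mem_centralizer_of_pair d heS heo hez hconj
  set U := CfsgLib.Classification.fourSpan z e (mul_self_of_orderOf hz) (mul_self_of_orderOf heo)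
    hzeo
  have hU : IsKleinFour U := CfsgLib.Classification.isKleinFour_fourSpan _ _ _
    (ne_one_of_orderOf hz) (ne_one_of_orderOf heo) (Ne.symm hez)
  have hUc : ∀ q ∈ (S : Subgroup G), q * e = e * q → ∀ x ∈ U, x * q = q * x := by
    intro q hq hqe x hx
    rcases CfsgLib.Classification.mem_fourSpan.mp hx with rfl | rfl | rfl | rfl
    · rw [one_mul, mul_one]
    · exact (d.comm q hq).symm
    · exact hqe.symm
    · exact ((show Commute z q from (d.comm q hq).symm).mul_left hqe.symm).eq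
  -- all elementary groups of order eight of `S` contain a four-group with the same closure
  have hfour : ∀ E : Subgroup G, E ≤ (S : Subgroup G) → Cfsg.IsElementaryAbelian 2 E →
      4 < Nat.card E → ∃ F : Subgroup G, IsKleinFour F ∧ F ≤ E ∧ cl F = cl U := by
    intro E hES hE hE8
    have hcard : 3 ≤ Nat.card ↥(E ⊓ centralizer ({e} : Set G)) := by
      by_cases hle : E ≤ centralizer ({e} : Set G)
      · rw [inf_eq_left.mpr hle]; omega
      obtain ⟨a, haE, haB⟩ := SetLike.not_le_iff_exists.mp hle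
      have hidx : ((E ⊓ centralizer ({e} : Set G)).subgroupOf E).index = 2 := by
        refine index_eq_two_iff.mpr ⟨⟨a, haE⟩, fun b => ?_⟩
        simp only [mem_subgroupOf, Subgroup.coe_mul, mem_inf]
        by_cases hb : (b : G) ∈ centralizer ({e} : Set G)
        · refine Or.inr ⟨⟨b.2, hb⟩, fun h => haB ?_⟩
          simpa using (centralizer ({e} : Set G)).mul_mem
            ((centralizer ({e} : Set G)).inv_mem hb) h.2
        · exact Or.inl ⟨⟨E.mul_mem b.2 haE, hpair' _ (hES b.2) _ (hES haE) hb haB⟩,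
            fun h => hb h.2⟩
      have := card_mul_index ((E ⊓ centralizer ({e} : Set G)).subgroupOf E)
      rw [hidx, Nat.card_congr (subgroupOfEquivOfLe
        (inf_le_left : E ⊓ centralizer ({e} : Set G) ≤ E)).toEquiv] at this
      omega
    obtain ⟨a, ha, ha1, -⟩ := exists_second' hcard 1
    obtain ⟨b, hb, hb1, hba⟩ := exists_second' hcard a
    have hsq : ∀ x ∈ E, x * x = 1 := fun x hx => by rw [← sq]; exact hE.2 x hx
    have hab : a * b = b * a := congrArg Subtype.val (hE.1.is_comm.comm ⟨a, ha.1⟩ ⟨b, hb.1⟩)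
    refine ⟨_, CfsgLib.Classification.isKleinFour_fourSpan (hsq a ha.1) (hsq b hb.1) hab ha1 hb1
      (Ne.symm hba), ?_, closure_eq_of_commute hC
        (CfsgLib.Classification.isKleinFour_fourSpan (hsq a ha.1) (hsq b hb.1) hab ha1 hb1
          (Ne.symm hba)) hU ?_⟩
    · intro x hx
      rcases CfsgLib.Classification.mem_fourSpan.mp hx with rfl | rfl | rfl | rfl
      exacts [E.one_mem, ha.1, hb.1, E.mul_mem ha.1 hb.1]
    · intro x hx u hu
      have hxm : x ∈ E ⊓ centralizer ({e} : Set G) := by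
        rcases CfsgLib.Classification.mem_fourSpan.mp hx with rfl | rfl | rfl | rfl
        exacts [one_mem _, ha, hb, mul_mem ha hb]
      exact (hUc x (hES hxm.1) (mem_centralizer_singleton_iff.mp hxm.2) u hu).symm
  -- an elementary group of order eight centralizing `U`
  obtain ⟨EU, hEU, hEU8, hEUS, hzEU, heEU⟩ : ∃ E : Subgroup G, Cfsg.IsElementaryAbelian 2 E ∧
      4 < Nat.card E ∧ E ≤ (S : Subgroup G) ∧ z ∈ E ∧ e ∈ E := by
    obtain ⟨F, hF, hFE, -⟩ := hfour E₀ hE₀S hE₀ hE₀8
    by_contra hno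
    have hin : ∀ q ∈ (S : Subgroup G), orderOf q = 2 → q * e = e * q → q ∈ U := by
      intro q hq hqo hqe
      by_contra hqU
      obtain ⟨E, hE, h8, hES, h1, h2, -⟩ := exists_elementary_eight (K := (S : Subgroup G)) hz
        heo hqo (Ne.symm hez) d.mem heS hq hzeo (d.comm q hq).symm hqe.symm
        (fun h => hqU (h ▸ CfsgLib.Classification.mem_fourSpan.mpr (Or.inr (Or.inl rfl))))
        (fun h => hqU (h ▸ CfsgLib.Classification.mem_fourSpan.mpr (Or.inr (Or.inr (Or.inl rfl)))))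
        (fun h => hqU (h ▸ CfsgLib.Classification.mem_fourSpan.mpr (Or.inr (Or.inr (Or.inr rfl)))))
      exact hno ⟨E, hE, h8, hES, h1, h2⟩
    have hsq : ∀ x ∈ E₀, x * x = 1 := fun x hx => by rw [← sq]; exact hE₀.2 x hx
    by_cases hle : E₀ ≤ centralizer ({e} : Set G)
    · have : E₀ ≤ U := fun x hx => by
        by_cases hx1 : x = 1
        · exact hx1 ▸ U.one_mem
        · exact hin x (hE₀S hx) (orderOf_eq_two (hsq x hx) hx1)
            (mem_centralizer_singleton_iff.mp (hle hx))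
      have := Subgroup.card_le_of_le this
      rw [hU.card_four] at this
      omega
    · -- then `E₀ ∩ C(e) = U`, so `e ∈ E₀` and `E₀` centralizes `e`
      obtain ⟨a, haE, haB⟩ := SetLike.not_le_iff_exists.mp hle
      have hidx : ((E₀ ⊓ centralizer ({e} : Set G)).subgroupOf E₀).index = 2 := by
        refine index_eq_two_iff.mpr ⟨⟨a, haE⟩, fun b => ?_⟩
        simp only [mem_subgroupOf, Subgroup.coe_mul, mem_inf]
        by_cases hb : (b : G) ∈ centralizer ({e} : Set G)
        · refine Or.inr ⟨⟨b.2, hb⟩, fun h => haB ?_⟩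
          simpa using (centralizer ({e} : Set G)).mul_mem
            ((centralizer ({e} : Set G)).inv_mem hb) h.2
        · exact Or.inl ⟨⟨E₀.mul_mem b.2 haE, hpair' _ (hE₀S b.2) _ (hE₀S haE) hb haB⟩,
            fun h => hb h.2⟩
      have hm := card_mul_index ((E₀ ⊓ centralizer ({e} : Set G)).subgroupOf E₀)
      rw [hidx, Nat.card_congr (subgroupOfEquivOfLe
        (inf_le_left : E₀ ⊓ centralizer ({e} : Set G) ≤ E₀)).toEquiv] at hm
      have hinU : E₀ ⊓ centralizer ({e} : Set G) ≤ U := fun x hx => by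
        by_cases hx1 : x = 1
        · exact hx1 ▸ U.one_mem
        · exact hin x (hE₀S hx.1) (orderOf_eq_two (hsq x hx.1) hx1)
            (mem_centralizer_singleton_iff.mp hx.2)
      have hdvd := card_dvd_of_le hinU
      rw [hU.card_four] at hdvd
      have h4 := Nat.le_of_dvd (by norm_num) hdvd
      have hne3 : Nat.card ↥(E₀ ⊓ centralizer ({e} : Set G)) ≠ 3 := fun h => by
        rw [h] at hdvd; norm_num at hdvd
      have heq := eq_of_le_of_card_ge hinU (by rw [hU.card_four]; omega)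
      have heE : e ∈ E₀ :=
        ((heq.ge (CfsgLib.Classification.mem_fourSpan.mpr (Or.inr (Or.inr (Or.inl rfl))))) :
          e ∈ E₀ ⊓ centralizer ({e} : Set G)).1
      exact haB (mem_centralizer_singleton_iff.mpr
        (congrArg Subtype.val (hE₀.1.is_comm.comm ⟨a, haE⟩ ⟨e, heE⟩)))
  have hWodd : Odd (Nat.card (cl U)) := closure_odd hC hU hEU hEU8 fun x hx q hq =>
    hUc q (hEUS hq) (congrArg Subtype.val (hEU.1.is_comm.comm ⟨q, hq⟩ ⟨e, heEU⟩)) x hx
  -- conjugates of `z` in `S` give elements of `N(W)`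
  have hkey : ∀ g : G, g * z * g⁻¹ ∈ (S : Subgroup G) → g ∈ normalizer (cl U : Set G) := by
    intro g hu
    have huo : orderOf (g * z * g⁻¹) = 2 := (orderOf_conj g z).trans hz
    obtain ⟨A, hA, hA8, hAS, hAu⟩ : ∃ A : Subgroup G, Cfsg.IsElementaryAbelian 2 A ∧
        4 < Nat.card A ∧ A ≤ (S : Subgroup G) ∧ ∀ a ∈ A, a * (g * z * g⁻¹) = g * z * g⁻¹ * a := by
      by_cases hne : g * z * g⁻¹ = z
      · exact ⟨EU, hEU, hEU8, hEUS, fun a ha => by rw [hne]; exact d.comm a (hEUS ha)⟩
      by_contra hno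
      refine hnohalf (hasCyclicHalf_of_centralizer d hu hne (B := centralizer {e})
        (mem_centralizer_singleton_iff.mpr hzeo) (fun s hs => mul_self_mem_of_pair hpair' hs)
        ?_ fun q hq hqo hqu => ?_)
      · intro huB
        have hue := mem_centralizer_singleton_iff.mp huB
        by_cases h1 : g * z * g⁻¹ = e ∨ g * z * g⁻¹ = z * e
        · refine hno ⟨EU, hEU, hEU8, hEUS, fun a ha => ?_⟩
          have hae : a * e = e * a :=
            congrArg Subtype.val (hEU.1.is_comm.comm ⟨a, ha⟩ ⟨e, heEU⟩)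
          rcases h1 with h | h <;> rw [h]
          · exact hae
          · exact ((show Commute a z from d.comm a (hEUS ha)).mul_right hae).eq
        push Not at h1
        obtain ⟨A, hA, hA8, hAS, -, -, huA⟩ := exists_elementary_eight (K := (S : Subgroup G)) hz
          heo huo (Ne.symm hez) d.mem heS hu hzeo (d.comm _ hu).symm hue.symm hne h1.1 h1.2
        exact hno ⟨A, hA, hA8, hAS, fun a ha =>
          congrArg Subtype.val (hA.1.is_comm.comm ⟨a, ha⟩ ⟨_, huA⟩)⟩
      · by_contra hcon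
        push Not at hcon
        obtain ⟨A, hA, hA8, hAS, -, huA, -⟩ := exists_elementary_eight (K := (S : Subgroup G)) hz
          huo hqo (Ne.symm hne) d.mem hu hq (d.comm _ hu).symm (d.comm q hq).symm hqu.symm
          hcon.1 hcon.2.1 hcon.2.2
        exact hno ⟨A, hA, hA8, hAS, fun a ha =>
          congrArg Subtype.val (hA.1.is_comm.comm ⟨a, ha⟩ ⟨_, huA⟩)⟩
    set A' := A.map (MulAut.conj g⁻¹).toMonoidHom with hA'
    have hA'S : A' ≤ (S : Subgroup G) := by
      refine le_of_le_normalizer S ((S.isPGroup'.to_le hAS).map _) ?_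
      rintro _ ⟨a, ha, rfl⟩
      refine d.centralizer_le ?_
      have := conj_mem_centralizer (g := g⁻¹) (mem_centralizer_singleton_iff.mpr (hAu a ha))
      rw [show g⁻¹ * (g * z * g⁻¹) * g⁻¹⁻¹ = z by group] at this
      simpa using this
    obtain ⟨F, hF, hFA, hFU⟩ := hfour A' hA'S (CfsgLib.Transitivity.isElementaryAbelian_map hA _)
      (by rwa [hA', card_map_of_injective (MulAut.conj g⁻¹).injective])
    obtain ⟨F₁, hF₁, hF₁A, hF₁U⟩ := hfour A hAS hA hA8
    rw [← mul_mem_map_conj_iff]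
    conv_lhs => rw [← hFU, ← closure_conj]
    rw [← hF₁U]
    refine closure_eq_of_commute hC
      (CfsgLib.Classification.isKleinFour_map _ (MulAut.conj g).injective hF) hF₁ ?_
    rintro _ ⟨x, hx, rfl⟩ y hy
    obtain ⟨a, ha, hax⟩ := hFA hx
    have hxa : (MulAut.conj g).toMonoidHom x = a := by rw [← hax]; simp [mul_assoc]
    rw [hxa]
    exact congrArg Subtype.val (hA.1.is_comm.comm ⟨a, ha⟩ ⟨y, hF₁A hy⟩)
  have hlink : ∀ g : G, (∀ x ∈ zpowers z, ∀ y ∈ zpowers z, Commute (g * x * g⁻¹) y) →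
      g ∈ normalizer (cl U : Set G) := fun g hg => hkey g (mem_sylow_of_commute S
        d.centralizer_le ((orderOf_conj g z).trans hz) (hg z (mem_zpowers z) z (mem_zpowers z)))
  have hcore : ∀ t ∈ (S : Subgroup G) ⊓ Cfsg.pResidual 2 G, orderOf t = 2 → core t ≤ cl U := by
    intro t ht hto
    obtain ⟨h, -, hh⟩ := exists_conj_mem S (centralizer {e})
      (fun a ha b hb => hpair' a ha.1 b hb.1) ht hto
    have ht' : orderOf (h⁻¹ * t * h) = 2 := by
      have := orderOf_conj h⁻¹ t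
      rwa [inv_inv, hto] at this
    have hle : core (h⁻¹ * t * h) ≤ cl U := core_le_closure hC hU ht'
      (hUc _ hh.1.1 (mem_centralizer_singleton_iff.mp hh.2))
    have hzh : ∀ x ∈ zpowers z, h * x * h⁻¹ ∈ centralizer ({t} : Set G) := by
      intro x hx
      rw [mem_centralizer_singleton_iff]
      have h1 : Commute x (h⁻¹ * t * h) :=
        (mem_centralizer_iff.mp (d.zpowers_le hx).2 _ hh.1.1).symm
      have h2 := h1.map (MulAut.conj h).toMonoidHom
      simpa [mul_assoc] using h2.eq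
    obtain ⟨hdec, hlk⟩ := centralizer_le_normalizer_mul hC S d.zpowers_le hlink ht.1 hto
    obtain ⟨c, hc, hch⟩ := hlk h hzh
    obtain ⟨n, hn, k, hk, rfl⟩ := hdec c hc
    have hkh : k * h ∈ normalizer (cl U : Set G) := by
      have := mul_mem (inv_mem hn) hch
      simpa [mul_assoc] using this
    have ht_eq : core t = (core (h⁻¹ * t * h)).map (MulAut.conj h).toMonoidHom := by
      rw [← core_conj]; congr 1; group
    have hk' : h⁻¹ * k * h ∈ cl U := by
      obtain ⟨y, hy, rfl⟩ := ht_eq.le hk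
      simpa [mul_assoc] using hle hy
    have hhN : h ∈ normalizer (cl U : Set G) := by
      have := mul_mem hkh (inv_mem (le_normalizer hk' : h⁻¹ * k * h ∈ normalizer (cl U : Set G)))
      simpa [mul_assoc] using this
    rw [ht_eq]
    exact (map_mono hle).trans (mul_mem_map_conj_iff.mpr hhN).le
  have hR : (S : Subgroup G) ⊓ Cfsg.pResidual 2 G ≠ ⊥ := fun e => ne_one_of_orderOf hz (by
    have h : z ∈ (S : Subgroup G) ⊓ Cfsg.pResidual 2 G := ⟨d.mem, d.mem_res⟩
    rwa [e, mem_bot] at h)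
  refine (embedded_or_eq_bot hO' S hR hWodd ?_ ?_ ?_).imp id fun hW t ht hto =>
    le_bot_iff.mp ((hcore t ht hto).trans hW.le)
  · exact fun s hs => hkey s (mul_mem (mul_mem hs d.mem) (inv_mem hs))
  · exact fun a _ ha => hkey a ((mem_normalizer_iff.mp ha z).mp ⟨d.mem, d.mem_res⟩).1
  · intro t ht hto c hc
    obtain ⟨n, hn, k, hk, rfl⟩ :=
      (centralizer_le_normalizer_mul hC S d.zpowers_le hlink ht.1 hto).1 c hc
    exact mul_mem hn (le_normalizer (hcore t ht hto hk))

end CfsgLib.ZCGroup
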