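import Cfsg.Agent.ZCGroup.PairFalse
import Cfsg.Agent.S2947
import Cfsg.Agent.S2954

/-!
# The structure theorem for groups with solvable 2-locals and `C(Z) ≤ N(S)`

* `dihedral_or_quasi`: a self-centralizing four-group makes the Sylow intersection dihedral or
  semidihedral.
* `structure_of_charTwoType`: the dichotomy when `HZ` has characteristic two type.
-/

set_option autoImplicit false
set_option linter.style.haveILetI false
set_option linter.unusedSectionVars false

namespace CfsgLib.ZCGroup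

open Subgroup

variable {G : Type*} [Group G] [Finite G]

/-- The two shapes of the conclusion. -/
def IsDihedralOrQuasi (R : Subgroup G) : Prop :=
  (∃ n : ℕ, 2 ≤ n ∧ Nonempty (↥R ≃* DihedralGroup n)) ∨ Cfsg.IsQuasiDihedral ↥R

theorem dihedral_or_quasi {H V : Subgroup G} [H.Normal] (S : Sylow 2 G) (hV : IsKleinFour V)
    (hVH : V ≤ H) (hC : H ⊓ centralizer (V : Set G) ≤ V) :
    IsDihedralOrQuasi ((S : Subgroup G) ⊓ H) := by
  haveI : Fact (Nat.Prime 2) := ⟨Nat.prime_two⟩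
  obtain ⟨g, -, hg⟩ := exists_conj_mem_sylow (K := ⊤) (S.subtype le_top)
    (IsPGroup.of_card (p := 2) (n := 2) hV.card_four) le_top
  set R := (S : Subgroup G) ⊓ H with hR
  set W := V.map (MulAut.conj g).toMonoidHom with hW
  have hW4 : IsKleinFour W := CfsgLib.Classification.isKleinFour_map _ (MulAut.conj g).injective hV
  have hWR : W ≤ R := by
    rintro _ ⟨v, hv, rfl⟩
    obtain ⟨y, hy, e⟩ := hg v hv
    refine ⟨?_, (inferInstance : H.Normal).conj_mem v (hVH hv) g⟩
    show g * v * g⁻¹ ∈ (S : Subgroup G)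
    rw [← e]
    exact hy
  have hWC : R ⊓ centralizer (W : Set G) ≤ W := by
    rintro x ⟨hx, hxc⟩
    refine ⟨g⁻¹ * x * g, hC ⟨?_, ?_⟩, by simp [mul_assoc]⟩
    · have := (inferInstance : H.Normal).conj_mem x hx.2 g⁻¹
      rwa [inv_inv] at this
    · refine mem_centralizer_iff.mpr fun v hv => ?_
      have h1 : Commute (g * v * g⁻¹) x := mem_centralizer_iff.mp hxc _ ⟨v, hv, rfl⟩
      have h2 := h1.map (MulAut.conj g⁻¹).toMonoidHom
      simpa [mul_assoc] using h2.eq
  have hRp : IsPGroup 2 R := S.isPGroup'.to_le inf_le_left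
  by_cases hcard : Nat.card R = 4
  · have heq : W = R := eq_of_le_of_card_ge hWR (by rw [hW4.card_four, hcard])
    refine Or.inl ⟨2, le_rfl, ?_⟩
    rw [← heq]
    haveI := hW4
    exact IsKleinFour.nonempty_mulEquiv
  have hne : R ≠ ⊥ := fun e => by
    have := Subgroup.card_le_of_le hWR
    rw [e, card_bot, hW4.card_four] at this
    omega
  obtain ⟨v₀, hv₀R, hv₀, hv₀c⟩ := CfsgLib.Inv53.exists_orderOf_eq_central hRp hne
  have hv₀W : v₀ ∈ W := hWC ⟨hv₀R, mem_centralizer_iff.mpr fun w hw => hv₀c w (hWR hw)⟩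
  obtain ⟨v, hvW, hv1, hv₀v⟩ := exists_second' (by rw [hW4.card_four]; omega : 3 ≤ Nat.card W) v₀
  have hvR : v ∈ R := hWR hvW
  have hv : orderOf v = 2 := orderOf_of_mem_four hW4 hvW hv1
  have hC4 : Nat.card ↥(centralizer ({(⟨v, hvR⟩ : R)} : Set R)) = 4 := by
    have hmap : (centralizer ({(⟨v, hvR⟩ : R)} : Set R)).map R.subtype = W := by
      refine le_antisymm ?_ ?_
      · rintro _ ⟨q, hq, rfl⟩
        have hqv : (q : G) * v = v * q :=
          congrArg Subtype.val (mem_centralizer_singleton_iff.mp hq)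
        have hqv₀ : (q : G) * v₀ = v₀ * q := hv₀c q q.2
        refine hWC ⟨q.2, mem_centralizer_iff.mpr fun w hw => ?_⟩
        set F := CfsgLib.Classification.fourSpan v₀ v (mul_self_of_orderOf hv₀)
          (mul_self_of_orderOf hv) (hv₀c v hvR).symm
        have hF : IsKleinFour F := CfsgLib.Classification.isKleinFour_fourSpan _ _ _
          (ne_one_of_orderOf hv₀) hv1 (Ne.symm hv₀v)
        have hFW : F ≤ W := by
          intro x hx
          rcases CfsgLib.Classification.mem_fourSpan.mp hx with rfl | rfl | rfl | rfl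
          exacts [W.one_mem, hv₀W, hvW, W.mul_mem hv₀W hvW]
        have hwF : w ∈ F :=
          (eq_of_le_of_card_ge hFW (by rw [hW4.card_four, hF.card_four])).ge hw
        rcases CfsgLib.Classification.mem_fourSpan.mp hwF with rfl | rfl | rfl | rfl
        · rw [one_mul, mul_one]
        · exact hqv₀.symm
        · exact hqv.symm
        · exact ((show Commute v₀ (q : G) from hqv₀.symm).mul_left hqv.symm).eq
      · intro w hw
        exact ⟨⟨w, hWR hw⟩, mem_centralizer_singleton_iff.mpr (Subtype.ext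
          (CfsgLib.Classification.comm_of_isKleinFour hW4 hw hvW)), rfl⟩
    rw [← card_map_of_injective R.subtype_injective, hmap]
    exact hW4.card_four
  rcases CfsgLib.Inv53.dihedral_quasi_or_four hRp _ (by rw [← Subgroup.orderOf_coe]; exact hv) hC4
    with ⟨n, ⟨e⟩⟩ | hq | h4
  · refine Or.inl ⟨n, ?_, ⟨e⟩⟩
    have h1 := Nat.card_congr e.toEquiv
    rw [DihedralGroup.nat_card] at h1
    have h2 := Subgroup.card_le_of_le hWR
    rw [hW4.card_four] at h2
    omega
  · exact Or.inr hq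
  · exact absurd h4 hcard

/-- `O²(G) = O²(O²(G))`. -/
theorem pResidual_pResidual_eq :
    Cfsg.pResidual 2 ↥(Cfsg.pResidual 2 G) = ⊤ := CfsgLib.Transfer.pResidual_pResidual

theorem mem_pResidual_of_pow_three {a : G} (ha : a ^ 3 = 1) : a ∈ Cfsg.pResidual 2 G :=
  CfsgLib.Transfer.mem_pResidual_of_coprime
    (Nat.Coprime.coprime_dvd_left (orderOf_dvd_of_pow_eq_one ha) (by norm_num))

theorem zc_le_normal (S Q : Sylow 2 G) {L : Subgroup G} [L.Normal] (h : zc S ≤ L) : zc Q ≤ L := by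
  obtain ⟨g, hg⟩ := MulAction.exists_smul_eq G S Q
  intro x hx
  have hmem : ∀ y ∈ (S : Subgroup G), g * y * g⁻¹ ∈ (Q : Subgroup G) := fun y hy => by
    rw [← hg]; exact ⟨y, hy, rfl⟩
  have hxQ : x ∈ (g • S : Sylow 2 G) := hg.symm ▸ (zc_le Q hx).1
  obtain ⟨y, hy, hyx⟩ := hxQ
  have hyx' : g * y * g⁻¹ = x := hyx
  rw [← hyx']
  refine (inferInstance : L.Normal).conj_mem y (h (mem_zc S hy (fun s hs => ?_) ?_)) g
  · have h1 := zc_comm Q hx (hmem s hs)
    rw [← hyx'] at h1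
    calc s * y = g⁻¹ * (g * s * g⁻¹ * (g * y * g⁻¹)) * g := by group
      _ = g⁻¹ * (g * y * g⁻¹ * (g * s * g⁻¹)) * g := by rw [h1]
      _ = y * s := by group
  · have h1 := zc_mul_self Q hx
    rw [← hyx'] at h1
    calc y * y = g⁻¹ * (g * y * g⁻¹ * (g * y * g⁻¹)) * g := by group
      _ = 1 := by rw [h1]; group

section Local

variable {L : Subgroup G}

theorem solvable_twoLocal (hN : ∀ N : Subgroup G, Cfsg.IsTwoLocal N → Group.IsSolvable ↥N)
    (N : Subgroup L) (h : Cfsg.IsTwoLocal N) : Group.IsSolvable ↥N := by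
  obtain ⟨T, hT, hT1, rfl⟩ := h
  haveI := hN (normalizer ((T.map L.subtype : Subgroup G) : Set G)) ⟨_, hT.map _, (by
    rwa [Ne, Subgroup.map_eq_bot_iff_of_injective _ L.subtype_injective]), rfl⟩
  let f : ↥(normalizer (T : Set L)) →* ↥(normalizer ((T.map L.subtype : Subgroup G) : Set G)) :=
    { toFun := fun n => ⟨((n : L) : G), le_normalizer_map (f := L.subtype) ⟨n, n.2, rfl⟩⟩
      map_one' := rfl
      map_mul' := fun _ _ => rfl }
  exact Group.isSolvable_of_isSolvable_injective (f := f)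
    fun a b e => Subtype.ext (Subtype.ext (congrArg Subtype.val e :))

theorem centralizer_le_of_subgroup
    (hZ : ∀ S : Sylow 2 G, centralizer (zc S : Set G) ≤ normalizer ((S : Subgroup G) : Set G))
    (hZL : ∀ S : Sylow 2 G, zc S ≤ L) (S' : Sylow 2 L) :
    centralizer (Cfsg.omegaCenterOf (S' : Subgroup L) : Set L) ≤
      normalizer ((S' : Subgroup L) : Set L) := by
  haveI : Fact (Nat.Prime 2) := ⟨Nat.prime_two⟩
  obtain ⟨Q, hQ⟩ := (S'.isPGroup'.map L.subtype).exists_le_sylow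
  have hS' : (Q : Subgroup G).subgroupOf L = (S' : Subgroup L) :=
    S'.is_maximal' Q.isPGroup'.comap_subtype fun x hx => hQ ⟨x, hx, rfl⟩
  intro x hx
  have hxQ : (x : G) ∈ normalizer ((Q : Subgroup G) : Set G) := by
    refine hZ Q (mem_centralizer_iff.mpr fun u hu => ?_)
    have hu' : (⟨u, hZL Q hu⟩ : L) ∈ Cfsg.omegaCenterOf (S' : Subgroup L) := by
      refine CfsgLib.PLocal.mem_omegaOne ⟨hS'.le (show (⟨u, hZL Q hu⟩ : L) ∈
        (Q : Subgroup G).subgroupOf L from (zc_le Q hu).1), mem_centralizer_iff.mpr fun s hs => ?_⟩ ?_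
      · exact Subtype.ext (zc_comm Q hu (hQ ⟨s, hs, rfl⟩))
      · exact Subtype.ext (by rw [SubmonoidClass.coe_pow, sq]; exact zc_mul_self Q hu)
    exact congrArg Subtype.val (mem_centralizer_iff.mp hx _ hu')
  rw [← hS', mem_normalizer_iff]
  intro y
  exact mem_normalizer_iff.mp hxQ (y : G)

theorem pCore_eq_bot_of_normal [L.Normal] (hO : Cfsg.pCore 2 G = ⊥) :
    Cfsg.pCore 2 ↥L = ⊥ := by
  haveI : Fact (Nat.Prime 2) := ⟨Nat.prime_two⟩
  haveI : ((Cfsg.pCore 2 ↥L).map L.subtype).Normal := by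
    refine normalizer_eq_top_iff.mp (top_unique ?_)
    exact (normalizer_eq_top_iff.mpr (inferInstance : L.Normal)).ge.trans
      (CfsgLib.SolvSig.normalizer_le_normalizer_map_char L _)
  have h1 := CfsgLib.PLocal.le_pCore (p := 2)
    ((CfsgLib.PLocal.isPGroup_pCore 2 ↥L).map L.subtype)
  rw [hO, le_bot_iff] at h1
  exact (Subgroup.map_eq_bot_iff_of_injective _ L.subtype_injective).mp h1

theorem isMaxIn_map {P : Subgroup L} (hP : Cfsg.IsMaximalTwoLocal P) :
    IsMaxIn L (P.map L.subtype) := by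
  refine ⟨map_subtype_le P, fun U hUP hU hU1 hPU => ?_⟩
  have hUL : U ≤ L := hUP.trans (map_subtype_le P)
  have hloc : Cfsg.IsTwoLocal (normalizer ((U.subgroupOf L : Subgroup L) : Set L)) :=
    ⟨_, hU.comap_subtype, (fun e => hU1 (by
      rw [← map_subgroupOf_eq_of_le hUL, show U.subgroupOf L = ⊥ from e, Subgroup.map_bot])), rfl⟩
  have hle : P ≤ normalizer ((U.subgroupOf L : Subgroup L) : Set L) := by
    intro p hp
    rw [mem_normalizer_iff]
    intro y
    exact mem_normalizer_iff.mp (hPU ⟨p, hp, rfl⟩) (y : G)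
  rintro x ⟨hxL, hx⟩
  refine ⟨⟨x, hxL⟩, (hP.2 _ hloc hle).le ?_, rfl⟩
  rw [mem_normalizer_iff]
  intro y
  exact mem_normalizer_iff.mp hx (y : G)

theorem embedded_of_normal [L.Normal] (S : Sylow 2 G) (hHL : Cfsg.pResidual 2 G ≤ L)
    (hgen : L ≤ Cfsg.pResidual 2 G ⊔ ((S : Subgroup G) ⊓ L))
    (hR : (S : Subgroup G) ⊓ Cfsg.pResidual 2 G ≠ ⊥) {M : Subgroup L}
    (hM : Cfsg.IsStronglyEmbedded M) (hSM : (S : Subgroup G).subgroupOf L ≤ M) :
    ∃ M' : Subgroup ↥(Cfsg.pResidual 2 G), Cfsg.IsStronglyEmbedded M' := by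
  haveI : Fact (Nat.Prime 2) := ⟨Nat.prime_two⟩
  set H := Cfsg.pResidual 2 G with hH
  set M₀ := M.map L.subtype with hM₀
  have hRM : (S : Subgroup G) ⊓ H ≤ M₀ := fun x hx => ⟨⟨x, hHL hx.2⟩, hSM hx.1, rfl⟩
  refine ⟨M₀.subgroupOf H, ?_, ?_, fun g hg => ?_⟩
  · rw [Ne, subgroupOf_eq_top]
    intro hle
    refine hM.1 (top_unique fun x _ => ?_)
    have h1 : L ≤ M₀ := hgen.trans (sup_le hle fun y hy => ⟨⟨y, hy.2⟩, hSM hy.1, rfl⟩)
    obtain ⟨y, hy, e⟩ := h1 x.2
    have : y = x := L.subtype_injective e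
    exact this ▸ hy
  · obtain ⟨n, hn⟩ := IsPGroup.iff_card.1 (S.isPGroup'.to_le
      (inf_le_left : (S : Subgroup G) ⊓ H ≤ _))
    have hn0 : n ≠ 0 := fun e => hR (eq_bot_of_card_eq _ (by rw [hn, e, pow_zero]))
    refine even_iff_two_dvd.2 ((hn ▸ dvd_pow_self 2 hn0).trans ?_)
    rw [← Nat.card_congr (subgroupOfEquivOfLe (inf_le_right : (S : Subgroup G) ⊓ H ≤ H)).toEquiv]
    exact card_dvd_of_le fun x hx => hRM hx
  · have hg' : (⟨(g : G), hHL g.2⟩ : L) ∉ M := fun h => hg ⟨_, h, rfl⟩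
    have hodd := hM.2.2 _ hg'
    refine hodd.of_dvd_nat ?_
    rw [← Subgroup.card_map_of_injective H.subtype_injective,
      ← Subgroup.card_map_of_injective (f := L.subtype) L.subtype_injective
        (K := M ⊓ M.map (MulAut.conj (⟨(g : G), hHL g.2⟩ : L)).toMonoidHom)]
    refine card_dvd_of_le ?_
    rintro _ ⟨x, ⟨hx1, y, hy, hyx⟩, rfl⟩
    obtain ⟨m, hm, hmx⟩ := hx1
    refine ⟨m, ⟨hm, ?_⟩, hmx⟩
    obtain ⟨k, hk, hky⟩ := hy
    refine ⟨k, hk, Subtype.ext ?_⟩
    show (g : G) * (k : G) * (g : G)⁻¹ = (m : G)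
    have h1 : (g : G) * (y : G) * (g : G)⁻¹ = (x : G) := congrArg Subtype.val hyx
    rw [show (k : G) = (y : G) from hky, show (m : G) = (x : G) from hmx, h1]

end Local

/-- The structure theorem once `L = HZ` has characteristic two type. -/
theorem structure_of_charTwoType (hN : ∀ N : Subgroup G, Cfsg.IsTwoLocal N → Group.IsSolvable ↥N)
    (hZ : ∀ S : Sylow 2 G, centralizer (zc S : Set G) ≤ normalizer ((S : Subgroup G) : Set G))
    (hO : Cfsg.pCore 2 G = ⊥) (S : Sylow 2 G) (L : Subgroup G) [L.Normal]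
    (hHL : Cfsg.pResidual 2 G ≤ L) (hZL : zc S ≤ L)
    (hgen : L ≤ Cfsg.pResidual 2 G ⊔ zc S)
    (hR : (S : Subgroup G) ⊓ Cfsg.pResidual 2 G ≠ ⊥)
    (hchar : Cfsg.IsCharacteristicTwoType ↥L) :
    (∃ M : Subgroup ↥(Cfsg.pResidual 2 G), Cfsg.IsStronglyEmbedded M) ∨
      IsDihedralOrQuasi ((S : Subgroup G) ⊓ Cfsg.pResidual 2 G) := by
  haveI : Fact (Nat.Prime 2) := ⟨Nat.prime_two⟩
  haveI : (Cfsg.pResidual 2 G).Normal := inferInstance
  set H := Cfsg.pResidual 2 G with hH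
  have hNL := solvable_twoLocal (L := L) hN
  have hZall : ∀ Q : Sylow 2 G, zc Q ≤ L := fun Q => zc_le_normal S Q hZL
  have hZ' := centralizer_le_of_subgroup hZ hZall
  have hOL := pCore_eq_bot_of_normal (L := L) hO
  set S' : Sylow 2 L := (S.isPGroup'.comap_subtype (K := L)).toSylow
    (CfsgLib.Transfer.not_dvd_relIndex_of_normal S L) with hS'
  have hS'c : (S' : Subgroup L) = (S : Subgroup G).subgroupOf L := rfl
  set J := Cfsg.thompsonSubgroupOf 2 (S' : Subgroup L) with hJ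
  have hJS : J ≤ (S' : Subgroup L) := CfsgLib.PLocal.thompsonSubgroupOf_le 2 _
  have hS'ne : (S' : Subgroup L) ≠ ⊥ := by
    rw [hS'c, Ne, subgroupOf_eq_bot, disjoint_iff]
    exact fun e => hR (le_bot_iff.mp (le_trans (inf_le_inf_left _ hHL) e.le))
  have hJne : J ≠ ⊥ := by
    obtain ⟨x, hxS, hx, -⟩ := CfsgLib.Inv53.exists_orderOf_eq_central S'.isPGroup' hS'ne
    obtain ⟨A, hA⟩ := CfsgLib.PLocal.maxEAIn_nonempty 2 (S' : Subgroup L)
    have h2 := hA.2.2 (zpowers x) (zpowers_le.mpr hxS)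
      (CfsgLib.PLocal.isElementaryAbelian_zpowers (by rw [← hx, pow_orderOf_eq_one]))
    intro e
    have h3 := Subgroup.card_le_of_le (CfsgLib.PLocal.le_thompsonSubgroupOf hA)
    rw [← hJ, e, card_bot] at h3
    rw [Nat.card_zpowers, hx] at h2
    omega
  set M := normalizer (J : Set L) with hM
  have hMl : Cfsg.IsTwoLocal M := ⟨J, S'.isPGroup'.to_le hJS, hJne, rfl⟩
  by_cases hstr : Cfsg.straddlingTwoSubgroups M = ∅
  · refine Or.inl ?_
    have hSE := (Cfsg.Agent.S2947.result hchar hNL hZ' hOL S' M hMl le_rfl).mpr hstr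
    refine embedded_of_normal S hHL ?_ hR hSE ?_
    · exact hgen.trans (sup_le le_sup_left
        ((le_inf (zc_le S |>.trans inf_le_left) hZL).trans le_sup_right))
    · rw [← hS'c]
      intro s hs
      rw [hM, mem_normalizer_iff_map_conj_eq, hJ,
        CfsgLib.PLocal.map_thompsonSubgroupOf (MulAut.conj s).injective,
        mem_normalizer_iff_map_conj_eq.mp (le_normalizer hs)]
  obtain ⟨T, hT⟩ := CfsgLib.JComp.exists_max_straddling (Set.nonempty_iff_ne_empty.mpr hstr)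
  obtain ⟨P₁, P₂, hne, hmax₁, hmax₂, hT₁, hT₂, hiso⟩ :=
    Cfsg.Agent.S2954.result hchar hNL hZ' hOL S' M hMl le_rfl T hT
  refine Or.inr ?_
  have hm₁ := isMaxIn_map hmax₁
  have hm₂ := isMaxIn_map hmax₂
  let ι : ∀ P : Subgroup L, ↥(P.map L.subtype) ≃* ↥P := fun P =>
    (P.equivMapOfInjective L.subtype L.subtype_injective).symm
  -- the four-group is inside `O²(G)`
  have hVH : ∀ {P V : Subgroup G}, Klein P V → V ≤ H := by
    intro P V h v hv
    obtain ⟨a, -, b, -, ha, hb, rfl⟩ := h.three v hv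
    exact H.mul_mem (mem_pResidual_of_pow_three ha) (mem_pResidual_of_pow_three hb)
  rcases hiso with ⟨⟨e⟩, -⟩ | ⟨⟨e₁⟩, ⟨e₂⟩⟩
  · obtain ⟨V, hV, hVC⟩ := exists_klein ((ι P₁).trans e)
    refine dihedral_or_quasi S hV.four (hVH hV) ?_
    rintro x ⟨hx, hxc⟩
    refine hVC ⟨hm₁.2 V hV.le (IsPGroup.of_card (n := 2) hV.four.card_four) (fun e => ?_)
      hV.le_normalizer ⟨hHL hx, centralizer_le_normalizer _ hxc⟩, hxc⟩
    have := hV.four.card_four
    rw [e, card_bot] at this
    omega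
  · obtain ⟨V₁, c₁, hd₁⟩ := exists_central ((ι P₁).trans e₁)
    obtain ⟨V₂, c₂, hd₂⟩ := exists_central ((ι P₂).trans e₂)
    have hTcard : ∀ {P : Subgroup L}, Cfsg.IsSylowTwoIn T P → Nat.card ↥(P.map L.subtype) = 48 →
        Nat.card ↥(T.map L.subtype) = 16 := by
      intro P hTP h48
      rw [card_map_of_injective L.subtype_injective] at h48 ⊢
      obtain ⟨k, hk⟩ := IsPGroup.iff_card.1 hTP.2.1
      have h := card_mul_index (T.subgroupOf P)
      rw [Nat.card_congr (subgroupOfEquivOfLe hTP.1).toEquiv, hk, h48] at h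
      have hodd : Odd ((T.subgroupOf P).index) := hTP.2.2
      have hk4 : k ≤ 5 := by
        by_contra hlt
        have h2 : 2 ^ k ∣ 48 := h ▸ dvd_mul_right _ _
        have h3 := (Nat.pow_dvd_pow 2 (show 6 ≤ k by omega)).trans h2
        norm_num at h3
      rw [hk]
      rcases hodd with ⟨j, hj⟩
      interval_cases k <;> omega
    have half₁ : Half L (T.map L.subtype) (P₁.map L.subtype) V₁ c₁ :=
      ⟨hm₁, hd₁, hT₁.2.1.map _, hTcard hT₁ hd₁.card, map_mono hT₁.1⟩
    have half₂ : Half L (T.map L.subtype) (P₂.map L.subtype) V₂ c₂ :=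
      ⟨hm₂, hd₂, hT₂.2.1.map _, hTcard hT₂ hd₂.card, map_mono hT₂.1⟩
    have hout : ∀ {P V : Subgroup G} {c : G}, Half L (T.map L.subtype) P V c → c ∉ H →
        IsDihedralOrQuasi ((S : Subgroup G) ⊓ H) := by
      intro P V c d hc
      refine dihedral_or_quasi S d.data.four (hVH d.data.toKlein) ?_
      rintro x ⟨hx, hxc⟩
      have hxP : x ∈ P := d.mem_normalizer_V (hHL hx) (centralizer_le_normalizer _ hxc)
      rcases d.data.centralizer_le x hxP
        (fun v hv => (mem_centralizer_iff.mp hxc v hv).symm) with h | h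
      · exact h
      · refine absurd ?_ hc
        have := H.mul_mem (hVH d.data.toKlein h) (H.inv_mem hx)
        rwa [mul_inv_cancel_right] at this
    by_cases hc₁ : c₁ ∈ H
    swap
    · exact hout half₁ hc₁
    by_cases hc₂ : c₂ ∈ H
    swap
    · exact hout half₂ hc₂
    exfalso
    obtain ⟨z, d⟩ := Two.exists_two half₁ half₂
      fun e => hne (Subgroup.map_injective L.subtype_injective e)
    exact false_of_pair hHL pResidual_pResidual_eq hZ hZall d hc₁
      (hVH hd₁.toKlein) (hVH hd₂.toKlein)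

end CfsgLib.ZCGroup
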