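import Cfsg.Agent.ZCGroup.Embedded
import Cfsg.Agent.Inv53.SmallCentralizer
import Cfsg.Agent.Classification.CyclicNormalAbelian
import Cfsg.Agent.Small.NormalFour
import Cfsg.Agent.Small.BaerSuzuki
import Cfsg.Agent.SubgroupCounts69.FourFree

/-!
# The Sylow 2-subgroup: cyclic subgroups of index two and centralizers of conjugates of `z`
-/

set_option autoImplicit false
set_option linter.style.haveILetI false
set_option linter.unusedSectionVars false

namespace CfsgLib.ZCGroup

open Subgroup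

variable {G : Type*} [Group G] [Finite G]

/-- `P` has a cyclic subgroup of index at most two. -/
def HasCyclicHalf (P : Type*) [Group P] : Prop :=
  ∃ B : Subgroup P, IsCyclic B ∧ ∀ a b : P, a ∉ B → b ∉ B → a * b ∈ B

theorem hasCyclicHalf_of_dihedral {P : Type*} [Group P] {n : ℕ} (e : P ≃* DihedralGroup n) :
    HasCyclicHalf P := by
  refine ⟨zpowers (e.symm (DihedralGroup.r 1)), inferInstance, fun a b ha hb => ?_⟩
  have hr : ∀ x : P, x ∉ zpowers (e.symm (DihedralGroup.r 1)) → ∃ i, e x = DihedralGroup.sr i := by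
    intro x hx
    rcases hxe : e x with i | i
    · refine absurd ?_ hx
      obtain ⟨k, rfl⟩ := ZMod.intCast_surjective i
      refine ⟨k, e.injective ?_⟩
      simp only [map_zpow, MulEquiv.apply_symm_apply, DihedralGroup.r_one_zpow, hxe]
    · exact ⟨i, rfl⟩
  obtain ⟨i, hi⟩ := hr a ha
  obtain ⟨j, hj⟩ := hr b hb
  obtain ⟨k, hk⟩ := ZMod.intCast_surjective (j - i)
  refine ⟨k, e.injective ?_⟩
  simp only [map_zpow, MulEquiv.apply_symm_apply, DihedralGroup.r_one_zpow, map_mul, hi, hj,
    DihedralGroup.sr_mul_sr, hk]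

theorem hasCyclicHalf_of_quaternion {P : Type*} [Group P] [Finite P] {n : ℕ}
    (e : P ≃* QuaternionGroup n) : HasCyclicHalf P := by
  have hn : n ≠ 0 := by
    rintro rfl
    haveI : Finite (QuaternionGroup 0) := Finite.of_equiv P e.toEquiv
    haveI : Finite ℤ := Finite.of_injective (fun i : ℤ => (QuaternionGroup.a i : QuaternionGroup 0))
      fun x y h => QuaternionGroup.a.inj h
    exact not_finite ℤ
  haveI : NeZero (2 * n) := ⟨by omega⟩
  refine ⟨zpowers (e.symm (QuaternionGroup.a 1)), inferInstance, fun a b ha hb => ?_⟩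
  have hmem : ∀ (x : P) (i : ZMod (2 * n)), e x = QuaternionGroup.a i →
      x ∈ zpowers (e.symm (QuaternionGroup.a 1)) := by
    intro x i hxi
    have hx : x = e.symm (QuaternionGroup.a 1) ^ i.val := e.injective (by
      rw [map_pow, MulEquiv.apply_symm_apply, QuaternionGroup.a_one_pow, hxi, ZMod.natCast_zmod_val])
    rw [hx]
    exact Subgroup.pow_mem _ (mem_zpowers _) _
  rcases hae : e a with i | i
  · exact absurd (hmem a i hae) ha
  rcases hbe : e b with j | j
  · exact absurd (hmem b j hbe) hb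
  exact hmem _ _ (by rw [map_mul, hae, hbe, QuaternionGroup.xa_mul_xa])

theorem hasCyclicHalf_of_quasiDihedral {P : Type*} [Group P] [Finite P]
    (h : Cfsg.IsQuasiDihedral P) : HasCyclicHalf P := by
  obtain ⟨n, -, hc, x, -, hx, -, -⟩ := h
  refine ⟨zpowers x, inferInstance, fun a b ha hb => ?_⟩
  have hidx : (zpowers x).index = 2 := by
    have := card_mul_index (zpowers x)
    rw [Nat.card_zpowers, hx, hc, pow_succ] at this
    exact Nat.eq_of_mul_eq_mul_left (pow_pos two_pos n) this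
  exact (mul_mem_iff_of_index_two hidx).mpr (iff_of_false ha hb)

/-- A 2-group without a normal four-group has a cyclic subgroup of index at most two. -/
theorem hasCyclicHalf_of_no_four {P : Type*} [Group P] [Finite P] (hP : IsPGroup 2 P)
    (h : ¬ CfsgLib.SubgroupCounts69.HasFour P) : HasCyclicHalf P := by
  haveI : Fact (Nat.Prime 2) := ⟨Nat.prime_two⟩
  have hall : CfsgLib.Classification.CyclicNormal.AllCyclic P := by
    intro A hA hAc
    have hc : ∀ x y : A, x * y = y * x := fun x y => hAc.is_comm.comm x y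
    refine CfsgLib.Small.isCyclic_of_unique_invol (hP.to_subgroup A) hc fun x y hx hy => ?_
    by_contra hne
    let Ω : Subgroup P :=
      { carrier := {a | a ∈ A ∧ a * a = 1}
        one_mem' := ⟨one_mem A, one_mul 1⟩
        mul_mem' := fun {a b} ha hb => ⟨mul_mem ha.1 hb.1, by
          rw [(show Commute b a from congrArg Subtype.val
            (hc ⟨b, hb.1⟩ ⟨a, ha.1⟩)).mul_mul_mul_comm, ha.2, hb.2, one_mul]⟩
        inv_mem' := fun {a} ha => ⟨inv_mem ha.1, by rw [← mul_inv_rev, ha.2, inv_one]⟩ }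
    haveI : Ω.Normal := ⟨fun a ha g => ⟨hA.conj_mem a ha.1 g, by
      rw [show g * a * g⁻¹ * (g * a * g⁻¹) = g * (a * a) * g⁻¹ by group, ha.2]; group⟩⟩
    have hx' : orderOf (x : P) = 2 := by rwa [Subgroup.orderOf_coe]
    have hy' : orderOf (y : P) = 2 := by rwa [Subgroup.orderOf_coe]
    have h4 : 4 ≤ Nat.card Ω := by
      have hF := CfsgLib.Classification.isKleinFour_fourSpan (mul_self_of_orderOf hx')
        (mul_self_of_orderOf hy') (congrArg Subtype.val (hc x y)) (ne_one_of_orderOf hx')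
        (ne_one_of_orderOf hy') (fun e => hne (Subtype.ext e))
      rw [← hF.card_four]
      refine Subgroup.card_le_of_le fun a ha => ?_
      rcases CfsgLib.Classification.mem_fourSpan.mp ha with rfl | rfl | rfl | rfl
      · exact Ω.one_mem
      · exact ⟨x.2, mul_self_of_orderOf hx'⟩
      · exact ⟨y.2, mul_self_of_orderOf hy'⟩
      · exact Ω.mul_mem ⟨x.2, mul_self_of_orderOf hx'⟩ ⟨y.2, mul_self_of_orderOf hy'⟩
    obtain ⟨F, hFn, hF4, hFΩ⟩ := CfsgLib.SubgroupCounts69.exists_normal_card_four hP Ω h4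
    exact h ⟨F, hFn, hF4, fun e he => by rw [sq]; exact (hFΩ he).2⟩
  rcases CfsgLib.Classification.CyclicNormal.classify (p := 2) hP hall with hc |
    ⟨-, ⟨n, ⟨e⟩⟩ | ⟨n, -, ⟨e⟩⟩ | hq⟩
  · exact ⟨⊤, inferInstance, fun a b ha => absurd (mem_top a) ha⟩
  · exact hasCyclicHalf_of_quaternion e
  · exact hasCyclicHalf_of_dihedral e
  · exact hasCyclicHalf_of_quasiDihedral hq

/-- Three commuting involutions, the last outside the four-group of the others, give an
elementary abelian group of order at least eight. -/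
theorem exists_elementary_eight {K : Subgroup G} {a b q : G} (ha : orderOf a = 2)
    (hb : orderOf b = 2) (hq : orderOf q = 2) (hab : a ≠ b) (haK : a ∈ K) (hbK : b ∈ K)
    (hqK : q ∈ K) (cab : a * b = b * a) (caq : a * q = q * a) (cbq : b * q = q * b)
    (h1 : q ≠ a) (h2 : q ≠ b) (h3 : q ≠ a * b) :
    ∃ E : Subgroup G, Cfsg.IsElementaryAbelian 2 E ∧ 4 < Nat.card E ∧ E ≤ K ∧ a ∈ E ∧ b ∈ E ∧
      q ∈ E := by
  haveI : Fact (Nat.Prime 2) := ⟨Nat.prime_two⟩
  set F := CfsgLib.Classification.fourSpan a b (mul_self_of_orderOf ha) (mul_self_of_orderOf hb) cab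
  have hF : IsKleinFour F := CfsgLib.Classification.isKleinFour_fourSpan _ _ _
    (ne_one_of_orderOf ha) (ne_one_of_orderOf hb) hab
  have hFe : Cfsg.IsElementaryAbelian 2 F :=
    ⟨isMulCommutative_four hF, fun x hx => by
      rw [sq]; exact CfsgLib.Classification.sq_eq_one_of_isKleinFour hF hx⟩
  have hQe : Cfsg.IsElementaryAbelian 2 (zpowers q) := ⟨inferInstance, fun x hx => by
    obtain ⟨k, rfl⟩ := mem_zpowers_iff.mp hx
    rw [← zpow_natCast, ← zpow_mul, mul_comm, zpow_mul, zpow_natCast, ← hq, pow_orderOf_eq_one,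
      one_zpow]⟩
  have hQF : zpowers q ≤ centralizer (F : Set G) := by
    refine zpowers_le.mpr (mem_centralizer_iff.mpr fun x hx => ?_)
    rcases CfsgLib.Classification.mem_fourSpan.mp hx with rfl | rfl | rfl | rfl
    · rw [one_mul, mul_one]
    · exact caq
    · exact cbq
    · exact ((show Commute a q from caq).mul_left cbq).eq
  refine ⟨F ⊔ zpowers q, CfsgLib.SolvSig.isElementaryAbelian_sup hFe hQe hQF, ?_, ?_, ?_, ?_, ?_⟩
  · by_contra hle
    have := eq_of_le_of_card_ge (le_sup_left : F ≤ F ⊔ zpowers q)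
      (by rw [hF.card_four]; omega)
    have hqF : q ∈ F := this.ge (mem_sup_right (mem_zpowers q))
    rcases CfsgLib.Classification.mem_fourSpan.mp hqF with e | e | e | e
    exacts [ne_one_of_orderOf hq e, h1 e, h2 e, h3 e]
  · refine sup_le (fun x hx => ?_) (zpowers_le.mpr hqK)
    rcases CfsgLib.Classification.mem_fourSpan.mp hx with rfl | rfl | rfl | rfl
    exacts [K.one_mem, haK, hbK, K.mul_mem haK hbK]
  · exact mem_sup_left (CfsgLib.Classification.mem_fourSpan.mpr (Or.inr (Or.inl rfl)))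
  · exact mem_sup_left (CfsgLib.Classification.mem_fourSpan.mpr (Or.inr (Or.inr (Or.inl rfl))))
  · exact mem_sup_right (mem_zpowers q)

/-- A 2-subgroup normalizing a Sylow 2-subgroup lies in it. -/
theorem le_of_le_normalizer (S : Sylow 2 G) {A : Subgroup G} (hA : IsPGroup 2 A)
    (h : A ≤ normalizer ((S : Subgroup G) : Set G)) : A ≤ (S : Subgroup G) := by
  rw [← S.is_maximal' (hA.to_sup_of_normal_right' S.isPGroup' h) le_sup_right]
  exact le_sup_left

theorem mem_sylow_of_commute_elem (S : Sylow 2 G) {z x : G}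
    (hCz : centralizer ({z} : Set G) ≤ normalizer ((S : Subgroup G) : Set G))
    (hx : IsPGroup 2 (zpowers x)) (h : x * z = z * x) : x ∈ (S : Subgroup G) :=
  le_of_le_normalizer S hx (zpowers_le.mpr (hCz (mem_centralizer_singleton_iff.mpr h)))
    (mem_zpowers x)

theorem mem_sylow_of_commute (S : Sylow 2 G) {z x : G}
    (hCz : centralizer ({z} : Set G) ≤ normalizer ((S : Subgroup G) : Set G)) (hx : orderOf x = 2)
    (h : Commute x z) : x ∈ (S : Subgroup G) :=
  le_of_le_normalizer S (isPGroup_zpowers_of_orderOf hx)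
    (zpowers_le.mpr (hCz (mem_centralizer_singleton_iff.mpr h.eq))) (mem_zpowers x)

/-- A conjugate of `z` outside `C(U)` with no elementary group of order eight in its centralizer
in `S` has centralizer of order four in `S`. -/
theorem card_inf_centralizer_eq_four (S : Sylow 2 G) {z : G} (hz : orderOf z = 2)
    (hzS : z ∈ (S : Subgroup G)) (hzc : ∀ s ∈ (S : Subgroup G), s * z = z * s)
    (hone : ∀ x ∈ (S : Subgroup G), orderOf x = 2 → (∀ s ∈ (S : Subgroup G), s * x = x * s) → x = z)
    (hCz : centralizer ({z} : Set G) ≤ normalizer ((S : Subgroup G) : Set G))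
    {B : Subgroup G} (hzB : z ∈ B) (hsq : ∀ s ∈ (S : Subgroup G), s * s ∈ B)
    {g : G} (hu : g * z * g⁻¹ ∈ (S : Subgroup G)) (hne : g * z * g⁻¹ ≠ z)
    (huB : g * z * g⁻¹ ∉ B)
    (hrank : ∀ q ∈ (S : Subgroup G), orderOf q = 2 → q * (g * z * g⁻¹) = g * z * g⁻¹ * q →
      q = z ∨ q = g * z * g⁻¹ ∨ q = z * (g * z * g⁻¹)) :
    Nat.card ↥((S : Subgroup G) ⊓ centralizer ({g * z * g⁻¹} : Set G)) = 4 := by
  haveI : Fact (Nat.Prime 2) := ⟨Nat.prime_two⟩
  set u := g * z * g⁻¹ with hudef
  have huo : orderOf u = 2 := (orderOf_conj g z).trans hz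
  have hzu : z * u = u * z := (hzc u hu).symm
  set C := (S : Subgroup G) ⊓ centralizer ({u} : Set G) with hC
  have hCg : C.map (MulAut.conj g⁻¹).toMonoidHom ≤ (S : Subgroup G) := by
    refine le_of_le_normalizer S ((S.isPGroup'.to_le inf_le_left).map _) ?_
    rintro _ ⟨c, hc, rfl⟩
    refine hCz ?_
    have := conj_mem_centralizer (g := g⁻¹) hc.2
    rw [hudef, show g⁻¹ * (g * z * g⁻¹) * g⁻¹⁻¹ = z by group] at this
    simpa using this
  -- `C` is not normal-closed in `S`
  have hlt : C < (S : Subgroup G) := lt_of_le_of_ne inf_le_left fun e => hne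
    (hone u hu huo fun s hs => mem_centralizer_singleton_iff.mp ((e.ge hs : s ∈ C).2))
  have hmemC : ∀ q ∈ C, orderOf q = 2 → q = z ∨ q = u ∨ q = z * u := fun q hq hqo =>
    hrank q hq.1 hqo (mem_centralizer_singleton_iff.mp hq.2)
  have hzC : z ∈ C := ⟨hzS, mem_centralizer_singleton_iff.mpr hzu⟩
  have huC : u ∈ C := ⟨hu, mem_centralizer_singleton_iff.mpr rfl⟩
  -- an element of `g S g⁻¹` moves `z` to `z u`
  obtain ⟨n, hn, hnz⟩ : ∃ n : G, n ∈ normalizer (C : Set G) ∧ n * z * n⁻¹ = z * u := by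
    have hlt' : C.map (MulAut.conj g⁻¹).toMonoidHom < (S : Subgroup G) := by
      refine lt_of_le_of_ne hCg fun e => hlt.ne (eq_of_le_of_card_ge inf_le_left ?_)
      rw [← e, card_map_of_injective (MulAut.conj g⁻¹).injective]
    obtain ⟨m, hm, hmC⟩ := SetLike.exists_of_lt
      (CfsgLib.Small.lt_inf_normalizer_of_pGroup S.isPGroup' hlt')
    have hn : g * m * g⁻¹ ∈ normalizer (C : Set G) := by
      rw [mem_normalizer_iff]
      intro x
      have hiff : ∀ y, y ∈ C ↔ g⁻¹ * y * g ∈ C.map (MulAut.conj g⁻¹).toMonoidHom := fun y => by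
        rw [mem_map_equiv]
        simp [mul_assoc]
      rw [hiff x, hiff, mem_normalizer_iff.mp hm.2 (g⁻¹ * x * g)]
      simp [mul_assoc]
    refine ⟨g * m * g⁻¹, hn, ?_⟩
    have hfix : g * m * g⁻¹ * u * (g * m * g⁻¹)⁻¹ = u := by
      rw [hudef]
      calc g * m * g⁻¹ * (g * z * g⁻¹) * (g * m * g⁻¹)⁻¹ = g * (m * z * m⁻¹) * g⁻¹ := by group
        _ = g * z * g⁻¹ := by rw [hzc m hm.1, mul_inv_cancel_right]
    rcases hmemC _ ((mem_normalizer_iff.mp hn z).mp hzC) ((orderOf_conj _ z).trans hz) with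
      e | e | e
    · refine absurd ?_ hmC
      refine ⟨g * m * g⁻¹, ⟨?_, mem_centralizer_singleton_iff.mpr (mul_inv_eq_iff_eq_mul.mp hfix)⟩,
        by simp [mul_assoc]⟩
      exact mem_sylow_of_commute_elem S hCz (by
        have := ((S.isPGroup'.map (MulAut.conj g).toMonoidHom).to_le (zpowers_le.mpr
          (⟨m, hm.1, rfl⟩ : g * m * g⁻¹ ∈ (S : Subgroup G).map (MulAut.conj g).toMonoidHom)))
        exact this) (mul_inv_eq_iff_eq_mul.mp e)
    · exact absurd ((MulAut.conj (g * m * g⁻¹)).injective (e.trans hfix.symm)) (Ne.symm hne)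
    · exact e
  have hsqone : ∀ x ∈ C, x * x = 1 := by
    intro x hx
    by_contra hxx
    obtain ⟨k, hk⟩ := IsPGroup.iff_orderOf.1 (S.isPGroup'.to_le (inf_le_left : C ≤ _)) ⟨x, hx⟩
    rw [← Subgroup.orderOf_coe] at hk
    simp only at hk
    obtain ⟨j, rfl⟩ : ∃ j, k = j + 2 := ⟨k - 2, by
      by_contra hlt2
      apply hxx
      rw [← sq, ← orderOf_dvd_iff_pow_eq_one, hk]
      exact (Nat.pow_dvd_pow 2 (show k ≤ 1 by omega)).trans (dvd_of_eq (pow_one 2))⟩
    set y := x ^ 2 ^ j with hy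
    have hyC : y ∈ C := C.pow_mem hx _
    have hy2 : orderOf (y * y) = 2 := by
      rw [← sq, hy, ← pow_mul, ← pow_succ, orderOf_pow_of_dvd (pow_ne_zero _ two_ne_zero)
        (hk ▸ Nat.pow_dvd_pow 2 (by omega)), hk, Nat.pow_div (by omega) two_pos,
        show j + 2 - (j + 1) = 1 by omega, pow_one]
    have hzuB : z * u ∉ B := fun h => huB (by simpa using B.mul_mem (B.inv_mem hzB) h)
    rcases hmemC _ (C.mul_mem hyC hyC) hy2 with e | e | e
    · have hny := (mem_normalizer_iff.mp hn y).mp hyC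
      have he : n * y * n⁻¹ * (n * y * n⁻¹) = z * u := by
        rw [← hnz, ← e]; group
      exact hzuB (he ▸ hsq _ hny.1)
    · exact huB (e ▸ hsq _ hyC.1)
    · exact hzuB (e ▸ hsq _ hyC.1)
  have hEq : C = CfsgLib.Classification.fourSpan z u (mul_self_of_orderOf hz)
      (mul_self_of_orderOf huo) hzu := by
    refine le_antisymm (fun q hq => CfsgLib.Classification.mem_fourSpan.mpr ?_) fun q hq => ?_
    · by_cases hq1 : q = 1
      · exact Or.inl hq1
      · exact Or.inr (hmemC q hq (orderOf_eq_two (hsqone q hq) hq1))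
    · rcases CfsgLib.Classification.mem_fourSpan.mp hq with rfl | rfl | rfl | rfl
      exacts [C.one_mem, hzC, huC, C.mul_mem hzC huC]
  rw [hEq]
  exact (CfsgLib.Classification.isKleinFour_fourSpan _ _ hzu (ne_one_of_orderOf hz)
    (ne_one_of_orderOf huo) (Ne.symm hne)).card_four

end CfsgLib.ZCGroup
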