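import Cfsg.Agent.BalancedClosure.Cores
import Cfsg.Agent.PLocal.PSolvable
import Cfsg.Agent.PLocal.Constraint
import Cfsg.Agent.PLocal.Thompson

/-!
# Cores of involution centralizers when these centralizers are solvable

* `core_le_closure`: the core of an involution centralizing a four-group `F` lies in the closure
  of the cores over `F`.
* `closure_eq_of_commute`: commuting four-groups have the same closure.
* `closure_odd`: the closure over a four-group with centralizer of rank at least three is odd.
-/

set_option autoImplicit false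
set_option linter.style.haveILetI false
set_option linter.unusedSectionVars false

namespace CfsgLib.ZCGroup

open Subgroup

variable {G : Type*} [Group G] [Finite G]

/-- `O(C(t))`. -/
abbrev core (t : G) : Subgroup G := Cfsg.centralizerPPrimeCore 2 t

/-- The closure of the cores over a subgroup. -/
abbrev cl (F : Subgroup G) : Subgroup G := Cfsg.signalizerClosure F (Cfsg.centralizerPPrimeCore 2)

/-- All involution centralizers are solvable. -/
def SolvableCentralizers (G : Type*) [Group G] : Prop :=
  ∀ t : G, orderOf t = 2 → Group.IsSolvable ↥(centralizer ({t} : Set G))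

theorem SolvableCentralizers.constrained (hC : SolvableCentralizers G) {t : G}
    (ht : orderOf t = 2) : Cfsg.IsPConstrained 2 ↥(centralizer ({t} : Set G)) := by
  haveI : Fact (Nat.Prime 2) := ⟨Nat.prime_two⟩
  haveI := hC t ht
  exact CfsgLib.PLocal.isPConstrained_of_isPSolvable CfsgLib.PLocal.isPSolvable_of_isSolvable

theorem orderOf_eq_two {x : G} (h : x * x = 1) (h1 : x ≠ 1) : orderOf x = 2 :=
  orderOf_eq_prime (hp := ⟨Nat.prime_two⟩) (by rw [sq]; exact h) h1

theorem mul_self_of_orderOf {x : G} (h : orderOf x = 2) : x * x = 1 := by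
  rw [← sq, ← h, pow_orderOf_eq_one]

theorem ne_one_of_orderOf {x : G} (h : orderOf x = 2) : x ≠ 1 := fun e => by
  rw [e, orderOf_one] at h
  omega

omit [Finite G] in
theorem orderOf_conj (g x : G) : orderOf (g * x * g⁻¹) = orderOf x :=
  (MulAut.conj g).orderOf_eq x

omit [Finite G] in
theorem core_le_centralizer (t : G) : core t ≤ centralizer ({t} : Set G) := map_subtype_le _

theorem core_odd (t : G) : Odd (Nat.card (core t)) := by
  haveI : Fact (Nat.Prime 2) := ⟨Nat.prime_two⟩
  exact Nat.not_even_iff_odd.mp fun he =>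
    CfsgLib.Transitivity.not_dvd_centralizerPPrimeCore (p := 2) t he.two_dvd

theorem centralizer_le_normalizer_core (t : G) :
    centralizer ({t} : Set G) ≤ normalizer (core t : Set G) :=
  le_normalizer.trans (CfsgLib.SolvSig.normalizer_le_normalizer_core' 2 _)

theorem core_conj (t g : G) : core (g * t * g⁻¹) = (core t).map (MulAut.conj g).toMonoidHom := by
  haveI : Fact (Nat.Prime 2) := ⟨Nat.prime_two⟩
  exact Cfsg.Agent.S1295.centralizerPPrimeCore_conj t g

/-- Balance. -/
theorem core_inf_le (hC : SolvableCentralizers G) {a b : G} (ha : orderOf a = 2)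
    (hb : orderOf b = 2) (hab : a * b = b * a) : core a ⊓ centralizer {b} ≤ core b := by
  haveI : Fact (Nat.Prime 2) := ⟨Nat.prime_two⟩
  exact Cfsg.Agent.S1295.balance (hC.constrained hb) ha hab

theorem mul_mem_map_conj_iff {W : Subgroup G} {g : G} :
    W.map (MulAut.conj g).toMonoidHom = W ↔ g ∈ normalizer (W : Set G) :=
  mem_normalizer_iff_map_conj_eq.symm

omit [Finite G] in
theorem isMulCommutative_four {F : Subgroup G} (hF : IsKleinFour F) : IsMulCommutative F :=
  ⟨⟨fun a b => Subtype.ext (CfsgLib.Classification.comm_of_isKleinFour hF a.2 b.2)⟩⟩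

theorem not_isCyclic_four {F : Subgroup G} (hF : IsKleinFour F) : ¬ IsCyclic F := by
  intro hc
  have h1 := IsCyclic.exponent_eq_card (α := F)
  rw [hF.exponent_two, hF.card_four] at h1
  omega

omit [Finite G] in
theorem orderOf_of_mem_four {F : Subgroup G} (hF : IsKleinFour F) {f : G} (hf : f ∈ F)
    (hf1 : f ≠ 1) : orderOf f = 2 :=
  orderOf_eq_prime (hp := ⟨Nat.prime_two⟩)
    (by rw [sq]; exact CfsgLib.Classification.sq_eq_one_of_isKleinFour hF hf) hf1

/-- An involution centralizing a four-group has its core inside the closure over it. -/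
theorem core_le_closure (hC : SolvableCentralizers G) {F : Subgroup G} (hF : IsKleinFour F)
    {b : G} (hb : orderOf b = 2) (hc : ∀ f ∈ F, f * b = b * f) : core b ≤ cl F := by
  haveI := isMulCommutative_four hF
  refine CfsgLib.Coprime.le_of_forall_inf_centralizer_le (not_isCyclic_four hF) ?_ ?_
    fun f hf hf1 => ?_
  · exact le_trans (fun f hf => mem_centralizer_singleton_iff.mpr (hc f hf))
      (centralizer_le_normalizer_core b)
  · rw [hF.card_four, show 4 = 2 ^ 2 from rfl]
    exact (Nat.coprime_two_left.mpr (core_odd b)).pow_left 2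
  · exact (core_inf_le hC hb (orderOf_of_mem_four hF hf hf1) (hc f hf).symm).trans
      (le_iSup (fun a : {a : G // a ∈ F ∧ a ≠ 1} => Cfsg.centralizerPPrimeCore 2 (a : G))
        ⟨f, hf, hf1⟩)

theorem closure_eq_of_commute (hC : SolvableCentralizers G) {F F' : Subgroup G}
    (hF : IsKleinFour F) (hF' : IsKleinFour F') (hc : ∀ a ∈ F, ∀ b ∈ F', a * b = b * a) :
    cl F = cl F' :=
  le_antisymm
    (iSup_le fun a => core_le_closure hC hF' (orderOf_of_mem_four hF a.2.1 a.2.2)
      fun b hb => (hc a a.2.1 b hb).symm)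
    (iSup_le fun b => core_le_closure hC hF (orderOf_of_mem_four hF' b.2.1 b.2.2)
      fun a ha => hc a ha b b.2.1)

theorem closure_conj (F : Subgroup G) (g : G) :
    cl (F.map (MulAut.conj g).toMonoidHom) = (cl F).map (MulAut.conj g).toMonoidHom := by
  simp only [Cfsg.signalizerClosure, Subgroup.map_iSup]
  refine le_antisymm (iSup_le fun b => ?_) (iSup_le fun a => ?_)
  · obtain ⟨a, ha, hb⟩ := b.2.1
    have hb' : g * a * g⁻¹ = (b : G) := hb
    refine le_trans (le_of_eq ?_) (le_iSup (fun a : {a : G // a ∈ F ∧ a ≠ 1} =>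
      (Cfsg.centralizerPPrimeCore 2 (a : G)).map (MulAut.conj g).toMonoidHom)
        ⟨a, ha, fun e => b.2.2 (by rw [← hb', e, mul_one, mul_inv_cancel])⟩)
    exact (congrArg (Cfsg.centralizerPPrimeCore 2) hb'.symm).trans (core_conj a g)
  · refine le_trans (le_of_eq (core_conj (a : G) g).symm) (le_iSup
      (fun b : {b : G // b ∈ F.map (MulAut.conj g).toMonoidHom ∧ b ≠ 1} =>
        Cfsg.centralizerPPrimeCore 2 (b : G)) ⟨g * a * g⁻¹, ⟨a, a.2.1, rfl⟩, fun e => a.2.2 ?_⟩)
    rwa [mul_inv_eq_one, mul_eq_left] at e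

/-- The closure over a four-group inside an elementary abelian group of order eight is odd. -/
theorem closure_odd (hC : SolvableCentralizers G) {F E : Subgroup G} (hF : IsKleinFour F)
    (hE : Cfsg.IsElementaryAbelian 2 E) (hE8 : 4 < Nat.card E)
    (hc : ∀ f ∈ F, ∀ e ∈ E, f * e = e * f) : Odd (Nat.card (cl F)) := by
  haveI : Fact (Nat.Prime 2) := ⟨Nat.prime_two⟩
  have hFe : Cfsg.IsElementaryAbelian 2 F :=
    ⟨isMulCommutative_four hF, fun a ha => by
      rw [sq]; exact CfsgLib.Classification.sq_eq_one_of_isKleinFour hF ha⟩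
  have hv : Cfsg.IsRankGraphVertex 2 2 F :=
    ⟨hFe, by rw [hF.card_four]; norm_num, CfsgLib.SolvSig.not_pRankLE_iff.mpr
      ⟨E, fun e he => mem_centralizer_iff.mpr fun f hf => hc f hf e he, hE, by norm_num; exact hE8⟩⟩
  refine Nat.not_even_iff_odd.mp fun he =>
    (CfsgLib.SolvSig.closure_solvable (θ := Cfsg.centralizerPPrimeCore 2) ?_
      (fun a g _ => core_conj a g) (fun a b ha hb hab => core_inf_le hC ha.1 hb.1 hab) hv).2
      he.two_dvd
  intro a ha
  haveI := hC a ha.1
  exact ⟨core_le_centralizer a, (core_odd a).not_two_dvd_nat,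
    Group.isSolvable_of_isSolvable_injective (inclusion_injective (core_le_centralizer a))⟩

end CfsgLib.ZCGroup
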