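import Cfsg.Agent.ZCGroup.Main
import Cfsg.Agent.ZCGroup.Model

/-!
# Two maximal 2-local subgroups `S₄ × Z₂` with a common Sylow 2-subgroup

* `Half`: the consequences for one of the two subgroups.
* `false_of_transfer`: transfer to an abelian quotient of a Sylow 2-subgroup.
* `false_of_pair`: the pair is impossible when both centres lie in a normal subgroup `H = O²(H)`.
-/

set_option autoImplicit false
set_option linter.style.haveILetI false
set_option linter.unusedSectionVars false

namespace CfsgLib.ZCGroup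

open Subgroup

variable {G : Type*} [Group G] [Finite G]

/-- `x` is a square in `L`. -/
def IsSquareIn (L : Subgroup G) (x : G) : Prop := ∃ y ∈ L, y * y = x

theorem IsSquareIn.conj {L : Subgroup G} {x g : G} (hg : g ∈ L) (h : IsSquareIn L x) :
    IsSquareIn L (g * x * g⁻¹) := by
  obtain ⟨y, hy, rfl⟩ := h
  exact ⟨g * y * g⁻¹, L.mul_mem (L.mul_mem hg hy) (L.inv_mem hg), by group⟩

/-- `P` is a maximal 2-local subgroup of `L`. -/
def IsMaxIn (L P : Subgroup G) : Prop :=
  P ≤ L ∧ ∀ U : Subgroup G, U ≤ P → IsPGroup 2 U → U ≠ ⊥ → P ≤ normalizer (U : Set G) →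
    L ⊓ normalizer (U : Set G) ≤ P

/-- One member `P ≅ S₄ × Z₂` of the pair, with the Sylow subgroup `T`. -/
structure Half (L T P V : Subgroup G) (c : G) : Prop where
  max : IsMaxIn L P
  data : Central P V c
  isPGroup : IsPGroup 2 T
  card : Nat.card T = 16
  le : T ≤ P

namespace Half

variable {L T P V : Subgroup G} {c : G}

theorem two_le_normalizer (d : Half L T P V c) {A : Subgroup G} (hA : IsPGroup 2 A) (hAP : A ≤ P)
    (h : T ≤ normalizer (A : Set G)) : A ≤ T := by
  haveI : Fact (Nat.Prime 2) := ⟨Nat.prime_two⟩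
  have hp := d.isPGroup.to_sup_of_normal_right' hA h
  obtain ⟨n, hn⟩ := IsPGroup.iff_card.mp hp
  have hdvd : Nat.card ↥(T ⊔ A) ∣ 16 * 3 := by
    have := card_dvd_of_le (sup_le d.le hAP)
    rwa [d.data.card] at this
  have h16 : Nat.card ↥(T ⊔ A) ∣ 16 := by
    rw [hn] at hdvd ⊢
    exact Nat.Coprime.dvd_of_dvd_mul_right (Nat.Coprime.pow_left n (by norm_num)) hdvd
  have heq := eq_of_le_of_card_ge (le_sup_left : T ≤ T ⊔ A)
    (by rw [d.card]; exact Nat.le_of_dvd (by norm_num) h16)
  exact le_sup_right.trans heq.ge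

/-- A 2-subgroup of `P` containing `T` is `T`. -/
theorem eq_of_le (d : Half L T P V c) {A : Subgroup G} (hA : IsPGroup 2 A) (hAP : A ≤ P)
    (hTA : T ≤ A) : A ≤ T :=
  d.two_le_normalizer hA hAP (hTA.trans le_normalizer)

theorem mem_T (d : Half L T P V c) : c ∈ T := by
  refine d.two_le_normalizer (isPGroup_zpowers_of_orderOf d.data.orderOf_eq)
    (zpowers_le.mpr d.data.mem) ?_ (mem_zpowers c)
  intro t ht
  refine centralizer_le_normalizer _ ?_
  rw [← CfsgLib.Transitivity.centralizer_singleton_eq]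
  exact mem_centralizer_singleton_iff.mpr (d.data.comm t (d.le ht))

theorem V_le (d : Half L T P V c) : V ≤ T :=
  d.two_le_normalizer (IsPGroup.of_card (n := 2) d.data.four.card_four) d.data.le
    (d.le.trans d.data.le_normalizer)

theorem mem_centralizer_c (d : Half L T P V c) {y : G} (hy : y ∈ L) (h : y * c = c * y) :
    y ∈ P := by
  refine d.max.2 _ (zpowers_le.mpr d.data.mem) (isPGroup_zpowers_of_orderOf d.data.orderOf_eq)
    (by rw [Ne, zpowers_eq_bot]; exact ne_one_of_orderOf d.data.orderOf_eq) ?_ ⟨hy, ?_⟩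
  · intro p hp
    refine centralizer_le_normalizer _ ?_
    rw [← CfsgLib.Transitivity.centralizer_singleton_eq]
    exact mem_centralizer_singleton_iff.mpr (d.data.comm p hp)
  · refine centralizer_le_normalizer _ ?_
    rw [← CfsgLib.Transitivity.centralizer_singleton_eq]
    exact mem_centralizer_singleton_iff.mpr h

theorem mem_normalizer_V (d : Half L T P V c) {y : G} (hy : y ∈ L)
    (h : y ∈ normalizer (V : Set G)) : y ∈ P :=
  d.max.2 V d.data.le (IsPGroup.of_card (n := 2) d.data.four.card_four) (fun e => by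
    have := d.data.four.card_four
    rw [e, card_bot] at this
    omega) d.data.le_normalizer ⟨hy, h⟩

theorem c_not_square (d : Half L T P V c) : ¬ IsSquareIn L c := by
  rintro ⟨y, hy, hyy⟩
  exact d.data.not_square y (d.mem_centralizer_c hy (by rw [← hyy, mul_assoc])) hyy

theorem square_of_mem (d : Half L T P V c) {v : G} (hv : v ∈ V) : IsSquareIn L v := by
  obtain ⟨y, hy, e⟩ := d.data.square v hv
  exact ⟨y, d.max.1 hy, e⟩

theorem V_comm (d : Half L T P V c) {u v : G} (hu : u ∈ V) (hv : v ∈ V) : u * v = v * u :=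
  CfsgLib.Classification.comm_of_isKleinFour d.data.four hu hv

/-- An involution of `V` central in `T`, and it is the only one. -/
theorem exists_z (d : Half L T P V c) : ∃ z ∈ V, orderOf z = 2 ∧ (∀ t ∈ T, t * z = z * t) ∧
    ∀ v ∈ V, (∀ t ∈ T, t * v = v * t) → v = 1 ∨ v = z := by
  haveI : (V.subgroupOf T).Normal :=
    (normal_subgroupOf_iff_le_normalizer d.V_le).mpr (d.le.trans d.data.le_normalizer)
  obtain ⟨z, hzV, hzc, hz⟩ := CfsgLib.Small.exists_central_invol_mem (G := T) d.isPGroup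
    (V.subgroupOf T) (fun e => by
      have := Nat.card_congr (subgroupOfEquivOfLe d.V_le).toEquiv
      rw [e, card_bot, d.data.four.card_four] at this
      omega)
  have hzcomm : ∀ t ∈ T, t * (z : G) = z * t := fun t ht =>
    congrArg Subtype.val (mem_center_iff.mp hzc ⟨t, ht⟩)
  have hzo : orderOf (z : G) = 2 := by rwa [Subgroup.orderOf_coe]
  refine ⟨z, hzV, hzo, hzcomm, fun v hv hvc => ?_⟩
  by_contra hcon
  push Not at hcon
  -- then `T` centralizes `V`
  have hall : ∀ t ∈ T, ∀ u ∈ V, t * u = u * t := by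
    intro t ht u hu
    have hvv : v * v = 1 := CfsgLib.Classification.sq_eq_one_of_isKleinFour d.data.four hv
    set F := CfsgLib.Classification.fourSpan (z : G) v (mul_self_of_orderOf hzo) hvv
      (d.V_comm hzV hv)
    have hF : IsKleinFour F := CfsgLib.Classification.isKleinFour_fourSpan _ _ _
      (ne_one_of_orderOf hzo) hcon.1 (Ne.symm hcon.2)
    have hle : F ≤ V := by
      intro x hx
      rcases CfsgLib.Classification.mem_fourSpan.mp hx with rfl | rfl | rfl | rfl
      exacts [V.one_mem, hzV, hv, V.mul_mem hzV hv]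
    have huF : u ∈ F := (eq_of_le_of_card_ge hle
      (by rw [d.data.four.card_four, hF.card_four])).ge hu
    rcases CfsgLib.Classification.mem_fourSpan.mp huF with rfl | rfl | rfl | rfl
    · rw [one_mul, mul_one]
    · exact hzcomm t ht
    · exact hvc t ht
    · exact ((show Commute t (z : G) from hzcomm t ht).mul_right (hvc t ht)).eq
  have hsub : (T : Set G) ⊆ (V : Set G) ∪ (fun x => c * x) '' (V : Set G) := by
    intro t ht
    rcases d.data.centralizer_le t (d.le ht) (hall t ht) with h | h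
    · exact Or.inl h
    · refine Or.inr ⟨_, h, ?_⟩
      show c * (c * t) = t
      rw [← mul_assoc, mul_self_of_orderOf d.data.orderOf_eq, one_mul]
  have h1 := (Set.ncard_le_ncard hsub (Set.toFinite _)).trans (Set.ncard_union_le _ _)
  have h2 : ((fun x => c * x) '' (V : Set G)).ncard ≤ (V : Set G).ncard :=
    Set.ncard_image_le (Set.toFinite _)
  have h3 : (V : Set G).ncard = 4 := by
    rw [← Nat.card_coe_set_eq]; exact d.data.four.card_four
  have h4 : (T : Set G).ncard = 16 := by rw [← Nat.card_coe_set_eq]; exact d.card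
  omega

end Half

/-- Transfer into an abelian 2-group. -/
theorem false_of_transfer {X : Type*} [Group X] [Finite X] (hno : Cfsg.pResidual 2 X = ⊤)
    (R : Sylow 2 X) {A : Type*} [CommGroup A] (φ : ↥(R : Subgroup X) →* A) (hA : IsPGroup 2 A)
    {c : X} (hc : orderOf c = 2) {a : A} (ha : a ≠ 1)
    (h : ∀ (g : X) (hg : g⁻¹ * c * g ∈ (R : Subgroup X)), φ ⟨g⁻¹ * c * g, hg⟩ = a) : False := by
  classical
  haveI : Fact (Nat.Prime 2) := ⟨Nat.prime_two⟩
  obtain ⟨g, -, hg⟩ := exists_conj_mem_sylow (K := ⊤) (R.subtype le_top)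
    (isPGroup_zpowers_of_orderOf hc) le_top
  have hg' : g * c * g⁻¹ ∈ (R : Subgroup X) := by
    obtain ⟨y, hy, e⟩ := hg c (mem_zpowers c)
    rw [← e]
    exact hy
  have haa : a * a = 1 := by
    have h1 : g⁻¹⁻¹ * c * g⁻¹ ∈ (R : Subgroup X) := by rwa [inv_inv]
    rw [← h g⁻¹ h1, ← map_mul, ← map_one φ]
    congr 1
    refine Subtype.ext ?_
    show g⁻¹⁻¹ * c * g⁻¹ * (g⁻¹⁻¹ * c * g⁻¹) = 1
    rw [show g⁻¹⁻¹ * c * g⁻¹ * (g⁻¹⁻¹ * c * g⁻¹) = g * (c * c) * g⁻¹ by group,
      mul_self_of_orderOf hc]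
    group
  letI : Fintype (X ⧸ (R : Subgroup X)) := (R : Subgroup X).fintypeQuotientOfFiniteIndex
  have hcc : c * c = 1 := mul_self_of_orderOf hc
  have hterm : MonoidHom.transfer φ c = a ^ (R : Subgroup X).index := by
    rw [MonoidHom.transfer_eq_prod_quotient_orbitRel_zpowers_quot φ c,
      Subgroup.index_eq_sum_minimalPeriod (R : Subgroup X) c, ← Finset.prod_pow_eq_pow_sum]
    refine Finset.prod_congr rfl fun q _ => ?_
    set m := Function.minimalPeriod (c • ·) q.out with hm
    have hper : Function.IsPeriodicPt (c • ·) 2 q.out := by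
      show c • c • q.out = q.out
      rw [smul_smul, hcc, one_smul]
    rcases (Nat.dvd_prime Nat.prime_two).1 hper.minimalPeriod_dvd with h12 | h12
    · conv_rhs => rw [show Function.minimalPeriod (fun x => c • x) q.out = 1 from h12, pow_one]
      have hmem : q.out.out⁻¹ * c * q.out.out ∈ (R : Subgroup X) := by
        have := QuotientGroup.out_conj_pow_minimalPeriod_mem (R : Subgroup X) c q.out
        rwa [h12, pow_one] at this
      rw [← h q.out.out hmem]
      congr 1
      refine Subtype.ext ?_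
      show q.out.out⁻¹ * c ^ m * q.out.out = q.out.out⁻¹ * c * q.out.out
      rw [show m = 1 from h12, pow_one]
    · conv_rhs => rw [show Function.minimalPeriod (fun x => c • x) q.out = 2 from h12, pow_two a, haa, ← map_one φ]
      congr 1
      refine Subtype.ext ?_
      show q.out.out⁻¹ * c ^ m * q.out.out = 1
      rw [show m = 2 from h12, pow_two, hcc, mul_one, inv_mul_cancel]
  obtain ⟨k, hk⟩ : Odd (R : Subgroup X).index :=
    Nat.not_even_iff_odd.mp fun he => R.not_dvd_index he.two_dvd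
  rw [hk, pow_succ, pow_mul, pow_two, haa, one_pow, one_mul] at hterm
  have h1 := CfsgLib.Transfer.pResidual_le_ker (p := 2) (MonoidHom.transfer φ) hA
  rw [hno] at h1
  have h2 : c ∈ (MonoidHom.transfer φ).ker := h1 (mem_top c)
  rw [MonoidHom.mem_ker, hterm] at h2
  exact ha h2

/-- The facts about a pair. -/
structure Two (L T P₁ V₁ P₂ V₂ : Subgroup G) (c₁ c₂ z : G) : Prop where
  one : Half L T P₁ V₁ c₁
  two : Half L T P₂ V₂ c₂
  z_mem : z ∈ V₁
  z_mem₂ : z ∈ V₂
  z_order : orderOf z = 2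
  z_comm : ∀ t ∈ T, t * z = z * t
  z_unique : ∀ v ∈ V₁, (∀ t ∈ T, t * v = v * t) → v = 1 ∨ v = z
  c_eq : c₂ = c₁ * z
  ne : V₁ ≠ V₂

namespace Two

variable {L T P₁ V₁ P₂ V₂ : Subgroup G} {c₁ c₂ z : G}

theorem exists_two (h₁ : Half L T P₁ V₁ c₁) (h₂ : Half L T P₂ V₂ c₂) (hne : P₁ ≠ P₂) :
    ∃ z, Two L T P₁ V₁ P₂ V₂ c₁ c₂ z := by
  obtain ⟨z, hzV, hz, hzc, hzu⟩ := h₁.exists_z
  obtain ⟨z', hzV', hz', hzc', -⟩ := h₂.exists_z
  have hc₁ : c₁ * c₁ = 1 := mul_self_of_orderOf h₁.data.orderOf_eq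
  have hcase : ∀ x ∈ T, (∀ t ∈ T, t * x = x * t) → x = 1 ∨ x = z ∨ x = c₁ ∨ x = c₁ * z := by
    intro x hx hxc
    rcases h₁.data.centralizer_le x (h₁.le hx) (fun v hv => (hxc v (h₁.V_le hv)).symm) with h | h
    · rcases hzu x h hxc with e | e
      · exact Or.inl e
      · exact Or.inr (Or.inl e)
    · have hxx : x = c₁ * (c₁ * x) := by rw [← mul_assoc, hc₁, one_mul]
      rcases hzu (c₁ * x) h (fun t ht => ((show Commute t c₁ from
        h₁.data.comm t (h₁.le ht)).mul_right (hxc t ht)).eq) with e | e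
      · exact Or.inr (Or.inr (Or.inl (by rw [hxx, e, mul_one])))
      · exact Or.inr (Or.inr (Or.inr (by rw [hxx, e])))
  have hc : c₂ = c₁ * z := by
    rcases hcase c₂ h₂.mem_T (fun t ht => h₂.data.comm t (h₂.le ht)) with e | e | e | e
    · exact absurd e (ne_one_of_orderOf h₂.data.orderOf_eq)
    · exact absurd (h₁.square_of_mem hzV) (e ▸ h₂.c_not_square)
    · exfalso
      subst e
      exact hne (le_antisymm
        (fun p hp => h₂.mem_centralizer_c (h₁.max.1 hp) (h₁.data.comm p hp))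
        (fun p hp => h₁.mem_centralizer_c (h₂.max.1 hp) (h₂.data.comm p hp)))
    · exact e
  have hzz : z' = z := by
    rcases hcase z' (h₂.V_le hzV') hzc' with e | e | e | e
    · exact absurd e (ne_one_of_orderOf hz')
    · exact e
    · exact absurd (h₂.square_of_mem hzV') (e ▸ h₁.c_not_square)
    · exact absurd (h₂.square_of_mem hzV') (e.trans hc.symm ▸ h₂.c_not_square)
  refine ⟨z, h₁, h₂, hzV, hzz ▸ hzV', hz, hzc, hzu, hc, fun e => hne ?_⟩
  exact le_antisymm
    (fun p hp => h₂.mem_normalizer_V (h₁.max.1 hp) (e ▸ h₁.data.le_normalizer hp))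
    (fun p hp => h₁.mem_normalizer_V (h₂.max.1 hp) (e.symm ▸ h₂.data.le_normalizer hp))

theorem c₁_sq (d : Two L T P₁ V₁ P₂ V₂ c₁ c₂ z) : c₁ * c₁ = 1 :=
  mul_self_of_orderOf d.one.data.orderOf_eq

/-- `c₁ v` is no square. -/
theorem not_square_mul₁ (d : Two L T P₁ V₁ P₂ V₂ c₁ c₂ z) {v : G} (hv : v ∈ V₁) :
    ¬ IsSquareIn L (c₁ * v) := by
  intro h
  by_cases hv1 : v = 1
  · rw [hv1, mul_one] at h; exact d.one.c_not_square h
  obtain ⟨p, hp, rfl⟩ := d.one.data.transitive z d.z_mem v hv (ne_one_of_orderOf d.z_order) hv1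
  have h2 := h.conj (d.one.max.1 (inv_mem hp))
  rw [show p⁻¹ * (c₁ * (p * z * p⁻¹)) * p⁻¹⁻¹ = p⁻¹ * (c₁ * p) * z by group,
    ← d.one.data.comm p hp, inv_mul_cancel_left, ← d.c_eq] at h2
  exact d.two.c_not_square h2

/-- `c₂ v` is no square. -/
theorem not_square_mul₂ (d : Two L T P₁ V₁ P₂ V₂ c₁ c₂ z) {v : G} (hv : v ∈ V₂) :
    ¬ IsSquareIn L (c₂ * v) := by
  intro h
  by_cases hv1 : v = 1
  · rw [hv1, mul_one] at h; exact d.two.c_not_square h
  obtain ⟨p, hp, rfl⟩ := d.two.data.transitive z d.z_mem₂ v hv (ne_one_of_orderOf d.z_order) hv1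
  have h2 := h.conj (d.two.max.1 (inv_mem hp))
  rw [show p⁻¹ * (c₂ * (p * z * p⁻¹)) * p⁻¹⁻¹ = p⁻¹ * (c₂ * p) * z by group,
    ← d.two.data.comm p hp, inv_mul_cancel_left, d.c_eq, mul_assoc, mul_self_of_orderOf d.z_order,
    mul_one] at h2
  exact d.one.c_not_square h2

theorem exists_b (d : Two L T P₁ V₁ P₂ V₂ c₁ c₂ z) :
    ∃ b ∈ V₂, b ∉ centralizer (V₁ : Set G) := by
  by_contra hall
  push Not at hall
  refine d.ne (eq_of_le_of_card_ge ?_ ?_).symm
  · intro b hb
    rcases d.one.data.centralizer_le b (d.one.le (d.two.V_le hb))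
      (fun v hv => (mem_centralizer_iff.mp (hall b hb) v hv).symm) with h | h
    · exact h
    · refine absurd (d.two.square_of_mem hb) ?_
      rw [show b = c₁ * (c₁ * b) by rw [← mul_assoc, d.c₁_sq, one_mul]]
      exact d.not_square_mul₁ h
  · rw [d.one.data.four.card_four, d.two.data.four.card_four]

/-- The subgroup `D` of index two in `T`. -/
theorem exists_D (d : Two L T P₁ V₁ P₂ V₂ c₁ c₂ z) :
    ∃ b ∈ V₂, ∃ D : Subgroup G, D = V₁ ⊔ zpowers b ∧ D ≤ T ∧ c₁ ∉ D ∧
      (∀ x ∈ T, x ∈ D ∨ c₁ * x ∈ D) ∧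
      (∀ x ∈ D, x * x = 1 → x ∈ V₁ ∨ x ∈ V₂) ∧
      ∀ x ∈ T, ∀ y, x * x = y → y = 1 ∨ y = z := by
  haveI : Fact (Nat.Prime 2) := ⟨Nat.prime_two⟩
  obtain ⟨b, hb, hbC⟩ := d.exists_b
  have hbT : b ∈ T := d.two.V_le hb
  have hbb : b * b = 1 := CfsgLib.Classification.sq_eq_one_of_isKleinFour d.two.data.four hb
  have hbN : zpowers b ≤ normalizer (V₁ : Set G) :=
    zpowers_le.mpr (d.one.data.le_normalizer (d.one.le hbT))
  set D := V₁ ⊔ zpowers b with hD
  have hmem : ∀ x ∈ D, x ∈ V₁ ∨ ∃ v ∈ V₁, x = v * b := by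
    intro x hx
    rw [hD, ← SetLike.mem_coe, coe_mul_of_right_le_normalizer_left V₁ (zpowers b) hbN] at hx
    obtain ⟨v, hv, q, hq, rfl⟩ := hx
    obtain ⟨k, rfl⟩ := mem_zpowers_iff.mp hq
    rcases Int.even_or_odd k with ⟨m, rfl⟩ | ⟨m, rfl⟩
    · left
      show v * b ^ (m + m) ∈ V₁
      rw [← two_mul, zpow_mul, zpow_two, hbb, one_zpow, mul_one]
      exact hv
    · right
      refine ⟨v, hv, ?_⟩
      show v * b ^ (2 * m + 1) = v * b
      rw [zpow_add, zpow_mul, zpow_two, hbb, one_zpow, one_mul, zpow_one]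
  have hDT : D ≤ T := sup_le d.one.V_le (zpowers_le.mpr hbT)
  have hbV : b ∉ V₁ := fun h => hbC (mem_centralizer_iff.mpr fun v hv => d.one.V_comm hv h)
  have hcD : c₁ ∉ D := by
    intro h
    rcases hmem c₁ h with h' | ⟨v, hv, e⟩
    · exact d.one.data.not_mem h'
    · refine hbC (mem_centralizer_iff.mpr fun u hu => ?_)
      have hb' : b = v⁻¹ * c₁ := by rw [e, inv_mul_cancel_left]
      rw [hb']
      exact ((show Commute u v⁻¹ from d.one.V_comm hu (V₁.inv_mem hv)).mul_right
        (d.one.data.comm u (d.one.data.le hu))).eq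
  have hcard : Nat.card D = 8 := by
    have h1 : 4 < Nat.card D := by
      rw [← d.one.data.four.card_four]
      refine lt_of_le_of_ne (Subgroup.card_le_of_le le_sup_left) fun e => hbV ?_
      exact (eq_of_le_of_card_ge (le_sup_left : V₁ ≤ D) e.ge).ge
        (mem_sup_right (mem_zpowers b))
    have h2 := card_dvd_of_le hDT
    rw [d.one.card] at h2
    have h3 : Nat.card D ≠ 16 := fun e =>
      hcD ((eq_of_le_of_card_ge hDT (by rw [d.one.card, e])).ge d.one.mem_T)
    obtain ⟨k, hk, hke⟩ := (Nat.dvd_prime_pow Nat.prime_two).mp (show Nat.card D ∣ 2 ^ 4 from h2)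
    interval_cases k <;> omega
  have hcov : ∀ x ∈ T, x ∈ D ∨ c₁ * x ∈ D := by
    intro x hx
    by_cases hxD : x ∈ D
    · exact Or.inl hxD
    have hidx : (D.subgroupOf T).index = 2 := by
      have := card_mul_index (D.subgroupOf T)
      rw [Nat.card_congr (subgroupOfEquivOfLe hDT).toEquiv, hcard, d.one.card] at this
      omega
    exact Or.inr ((mul_mem_iff_of_index_two hidx (a := (⟨c₁, d.one.mem_T⟩ : T)) (b := ⟨x, hx⟩)).mpr
      (iff_of_false hcD hxD))
  -- an element of `V₁` commuting with `b` is central in `T`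
  have hcent : ∀ u ∈ V₁, u * b = b * u → u = 1 ∨ u = z := by
    intro u hu hub
    have hD' : ∀ x ∈ D, x * u = u * x := by
      intro x hx
      rcases hmem x hx with h | ⟨v, hv, rfl⟩
      · exact d.one.V_comm h hu
      · exact ((show Commute v u from d.one.V_comm hv hu).mul_left hub.symm).eq
    refine d.z_unique u hu fun t ht => ?_
    rcases hcov t ht with h | h
    · exact hD' t h
    · rw [show t = c₁ * (c₁ * t) by rw [← mul_assoc, d.c₁_sq, one_mul]]
      exact ((show Commute c₁ u from (d.one.data.comm u (d.one.data.le hu)).symm).mul_left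
        (hD' _ h)).eq
  refine ⟨b, hb, D, rfl, hDT, hcD, hcov, ?_, ?_⟩
  · intro x hx hxx
    rcases hmem x hx with h | ⟨v, hv, rfl⟩
    · exact Or.inl h
    · have hvv : v * v = 1 := CfsgLib.Classification.sq_eq_one_of_isKleinFour d.one.data.four hv
      have hvb : v * b = b * v := by
        calc v * b = v * b * ((v * b) * (v * b))⁻¹ := by rw [hxx, inv_one, mul_one]
          _ = b⁻¹ * v⁻¹ := by group
          _ = b * v := by rw [inv_eq_of_mul_eq_one_right hbb, inv_eq_of_mul_eq_one_right hvv]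
      rcases hcent v hv hvb with rfl | rfl
      · exact Or.inr (by rwa [one_mul])
      · exact Or.inr (V₂.mul_mem d.z_mem₂ hb)
  · intro x hx y hxy
    have key : ∀ w ∈ D, w * w = 1 ∨ w * w = z := by
      intro w hw
      rcases hmem w hw with h | ⟨v, hv, rfl⟩
      · exact Or.inl (CfsgLib.Classification.sq_eq_one_of_isKleinFour d.one.data.four h)
      · have hv' : b * v * b ∈ V₁ := by
          have := (mem_normalizer_iff.mp (hbN (mem_zpowers b)) v).mp hv
          rwa [inv_eq_of_mul_eq_one_right hbb] at this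
        have h1 : v * b * (v * b) ∈ V₁ := by
          rw [show v * b * (v * b) = v * (b * v * b) by group]
          exact V₁.mul_mem hv hv'
        refine hcent _ h1 ?_
        have hc1 : Commute (v * b * (v * b)) (v * b) := (Commute.refl _).mul_left (Commute.refl _)
        have hc2 : Commute (v * b * (v * b)) v := d.one.V_comm h1 hv
        have := hc2.inv_right.mul_right hc1
        rwa [inv_mul_cancel_left] at this
    rcases hcov x hx with h | h
    · rcases key x h with e | e <;> rw [← hxy, e]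
      · exact Or.inl rfl
      · exact Or.inr rfl
    · have e1 : c₁ * x * (c₁ * x) = x * x := by
        rw [show c₁ * x * (c₁ * x) = c₁ * (x * c₁) * x by group, d.one.data.comm x (d.one.le hx),
          ← mul_assoc, d.c₁_sq, one_mul]
      rcases key _ h with e | e <;> rw [← hxy, ← e1, e]
      · exact Or.inl rfl
      · exact Or.inr rfl

end Two

end CfsgLib.ZCGroup
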