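import Cfsg.Agent.ZCGroup.Pair

/-!
# The pair `S₄ × Z₂`, `S₄ × Z₂` inside `O²` is impossible
-/

set_option autoImplicit false
set_option linter.style.haveILetI false
set_option linter.unusedSectionVars false

namespace CfsgLib.ZCGroup

open Subgroup

variable {G : Type*} [Group G] [Finite G]

/-- A subgroup inside the union of two subgroups lies in one of them. -/
theorem le_or_le_of_subset_union {F A B : Subgroup G} (h : ∀ x ∈ F, x ∈ A ∨ x ∈ B) :
    F ≤ A ∨ F ≤ B := by
  by_contra hcon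
  push Not at hcon
  obtain ⟨a, ha, haA⟩ := SetLike.not_le_iff_exists.mp hcon.1
  obtain ⟨b, hb, hbB⟩ := SetLike.not_le_iff_exists.mp hcon.2
  have haB := (h a ha).resolve_left haA
  have hbA := (h b hb).resolve_right hbB
  rcases h _ (F.mul_mem ha hb) with h' | h'
  · exact haA (by simpa using A.mul_mem h' (A.inv_mem hbA))
  · exact hbB (by simpa using B.mul_mem (B.inv_mem haB) h')

namespace Two

variable {L T P₁ V₁ P₂ V₂ : Subgroup G} {c₁ c₂ z : G}

/-- `T ∩ C(Vᵢ)` is elementary abelian of order at least eight. -/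
theorem elementary_inf (d : Half L T P₁ V₁ c₁) :
    Cfsg.IsElementaryAbelian 2 (T ⊓ centralizer (V₁ : Set G)) ∧
      4 < Nat.card ↥(T ⊓ centralizer (V₁ : Set G)) := by
  have hcc : c₁ * c₁ = 1 := mul_self_of_orderOf d.data.orderOf_eq
  have hsq : ∀ x ∈ T ⊓ centralizer (V₁ : Set G), x * x = 1 := by
    intro x hx
    rcases d.data.centralizer_le x (d.le hx.1)
      (fun v hv => (mem_centralizer_iff.mp hx.2 v hv).symm) with h | h
    · exact CfsgLib.Classification.sq_eq_one_of_isKleinFour d.data.four h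
    · have h1 := CfsgLib.Classification.sq_eq_one_of_isKleinFour d.data.four h
      rw [show c₁ * x * (c₁ * x) = c₁ * (x * c₁) * x by group, d.data.comm x (d.le hx.1),
        ← mul_assoc, hcc, one_mul] at h1
      exact h1
  refine ⟨⟨⟨⟨fun a b => Subtype.ext ?_⟩⟩, fun x hx => by rw [sq]; exact hsq x hx⟩, ?_⟩
  · show (a : G) * b = b * a
    have h1 := hsq _ (mul_mem a.2 b.2)
    have ha := inv_eq_of_mul_eq_one_right (hsq a a.2)
    have hb := inv_eq_of_mul_eq_one_right (hsq b b.2)
    calc (a : G) * b = ((a : G) * b)⁻¹ := (inv_eq_of_mul_eq_one_right h1).symm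
      _ = b * a := by rw [mul_inv_rev, ha, hb]
  · have hle : V₁ ≤ T ⊓ centralizer (V₁ : Set G) := le_inf d.V_le fun v hv =>
      mem_centralizer_iff.mpr fun u hu => d.V_comm hu hv
    rw [← d.data.four.card_four]
    refine lt_of_le_of_ne (Subgroup.card_le_of_le hle) fun e => d.data.not_mem ?_
    exact (eq_of_le_of_card_ge hle e.ge).ge
      ⟨d.mem_T, mem_centralizer_iff.mpr fun u hu => d.data.comm u (d.data.le hu)⟩

end Two

set_option maxHeartbeats 1000000 in
/-- No pair with both centres in a normal subgroup `H = O²(H)`. -/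
theorem false_of_pair {H L : Subgroup G} [H.Normal] (hHL : H ≤ L)
    (hperf : Cfsg.pResidual 2 ↥H = ⊤)
    (hZ : ∀ S : Sylow 2 G, centralizer (zc S : Set G) ≤ normalizer ((S : Subgroup G) : Set G))
    (hZL : ∀ S : Sylow 2 G, zc S ≤ L)
    {T P₁ V₁ P₂ V₂ : Subgroup G} {c₁ c₂ z : G} (d : Two L T P₁ V₁ P₂ V₂ c₁ c₂ z)
    (hc₁H : c₁ ∈ H) (hV₁H : V₁ ≤ H) (hV₂H : V₂ ≤ H) : False := by
  haveI : Fact (Nat.Prime 2) := ⟨Nat.prime_two⟩
  obtain ⟨b, hb, D, hDdef, hDT, hcD, hcov, hDinv, hsqT⟩ := d.exists_D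
  have hDH : D ≤ H := hDdef ▸ sup_le hV₁H (zpowers_le.mpr (hV₂H hb))
  have hbT : b ∈ T := d.two.V_le hb
  have hTH : T ≤ H := fun t ht => (hcov t ht).elim (fun h => hDH h) fun h => by
    simpa using H.mul_mem (H.inv_mem hc₁H) (hDH h)
  obtain ⟨Q, hTQ⟩ := d.one.isPGroup.exists_le_sylow
  set R := (Q : Subgroup G) ⊓ H with hR
  have hTR : T ≤ R := le_inf hTQ hTH
  have hRp : IsPGroup 2 R := Q.isPGroup'.to_le inf_le_left
  have hRL : R ≤ L := inf_le_right.trans hHL
  -- centralizers and normalizers inside `R`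
  have hRc : ∀ x ∈ R, x * c₁ = c₁ * x → x ∈ T := by
    intro x hx hxc
    refine d.one.eq_of_le (A := R ⊓ P₁) (hRp.to_le inf_le_left) inf_le_right
      (le_inf hTR d.one.le) ⟨hx, d.one.mem_centralizer_c (hRL hx) hxc⟩
  have hRc₂ : ∀ x ∈ R, x * c₂ = c₂ * x → x ∈ T := by
    intro x hx hxc
    refine d.two.eq_of_le (A := R ⊓ P₂) (hRp.to_le inf_le_left) inf_le_right
      (le_inf hTR d.two.le) ⟨hx, d.two.mem_centralizer_c (hRL hx) hxc⟩
  have hRV : ∀ x ∈ R, x ∈ normalizer (V₁ : Set G) → x ∈ T := by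
    intro x hx hxV
    refine d.one.eq_of_le (A := R ⊓ P₁) (hRp.to_le inf_le_left) inf_le_right
      (le_inf hTR d.one.le) ⟨hx, d.one.mem_normalizer_V (hRL hx) hxV⟩
  have hRV₂ : ∀ x ∈ R, x ∈ normalizer (V₂ : Set G) → x ∈ T := by
    intro x hx hxV
    refine d.two.eq_of_le (A := R ⊓ P₂) (hRp.to_le inf_le_left) inf_le_right
      (le_inf hTR d.two.le) ⟨hx, d.two.mem_normalizer_V (hRL hx) hxV⟩
  -- squares in `T ∩ C(Vᵢ)`
  set E₁ := T ⊓ centralizer (V₁ : Set G) with hE₁
  set E₂ := T ⊓ centralizer (V₂ : Set G) with hE₂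
  have hE₁mem : ∀ x ∈ E₁, x ∈ V₁ ∨ c₁ * x ∈ V₁ := fun x hx =>
    d.one.data.centralizer_le x (d.one.le hx.1) fun v hv => (mem_centralizer_iff.mp hx.2 v hv).symm
  have hE₂mem : ∀ x ∈ E₂, x ∈ V₂ ∨ c₂ * x ∈ V₂ := fun x hx =>
    d.two.data.centralizer_le x (d.two.le hx.1) fun v hv => (mem_centralizer_iff.mp hx.2 v hv).symm
  have hV₁E : V₁ ≤ E₁ := le_inf d.one.V_le fun v hv =>
    mem_centralizer_iff.mpr fun u hu => d.one.V_comm hu hv
  have hV₂E : V₂ ≤ E₂ := le_inf d.two.V_le fun v hv =>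
    mem_centralizer_iff.mpr fun u hu => d.two.V_comm hu hv
  have hsq₁ : ∀ x ∈ E₁, IsSquareIn L x → x ∈ V₁ := fun x hx hs => (hE₁mem x hx).resolve_right
    fun h => d.not_square_mul₁ h (by rwa [← mul_assoc, d.c₁_sq, one_mul])
  have hsq₂ : ∀ x ∈ E₂, IsSquareIn L x → x ∈ V₂ := fun x hx hs => (hE₂mem x hx).resolve_right
    fun h => d.not_square_mul₂ h (by
      rwa [← mul_assoc, mul_self_of_orderOf d.two.data.orderOf_eq, one_mul])
  have hDcomm : ∀ t ∈ T, Commute c₁ t := fun t ht => (d.one.data.comm t (d.one.le ht)).symm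
  have hc₂T : ∀ t ∈ T, Commute c₂ t := fun t ht => (d.two.data.comm t (d.two.le ht)).symm
  have hzc₁ : ∀ u ∈ T, (∀ x ∈ T, x * u = u * x) → u = 1 ∨ u = z ∨ u = c₁ ∨ u = c₂ := by
    intro u hu huc
    rcases hE₁mem u ⟨hu, mem_centralizer_iff.mpr fun v hv => huc v (d.one.V_le hv)⟩ with h | h
    · rcases d.z_unique u h huc with e | e
      · exact Or.inl e
      · exact Or.inr (Or.inl e)
    · have hxx : u = c₁ * (c₁ * u) := by rw [← mul_assoc, d.c₁_sq, one_mul]
      rcases d.z_unique _ h (fun x hx => ((hDcomm x hx).symm.mul_right (huc x hx)).eq) with e | e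
      · exact Or.inr (Or.inr (Or.inl (by rw [hxx, e, mul_one])))
      · exact Or.inr (Or.inr (Or.inr (by rw [hxx, e, d.c_eq])))
  -- every involution of `T` lies in `E₁` or `E₂`
  have hinv : ∀ x ∈ T, x * x = 1 → x ∈ E₁ ∨ x ∈ E₂ := by
    intro x hx hxx
    rcases hcov x hx with h | h
    · rcases hDinv x h hxx with h' | h'
      · exact Or.inl (hV₁E h')
      · exact Or.inr (hV₂E h')
    · have hd : c₁ * x * (c₁ * x) = 1 := by
        rw [show c₁ * x * (c₁ * x) = c₁ * (x * c₁) * x by group, d.one.data.comm x (d.one.le hx),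
          ← mul_assoc, d.c₁_sq, one_mul, hxx]
      have hxe : x = c₁ * (c₁ * x) := by rw [← mul_assoc, d.c₁_sq, one_mul]
      rw [hxe]
      have hcE₁ : c₁ ∈ E₁ := ⟨d.one.mem_T, mem_centralizer_iff.mpr fun v hv =>
        d.one.data.comm v (d.one.data.le hv)⟩
      have hcE₂ : c₁ ∈ E₂ := ⟨d.one.mem_T, mem_centralizer_iff.mpr fun v hv =>
        (hDcomm v (d.two.V_le hv)).symm.eq⟩
      rcases hDinv _ h hd with h' | h'
      · exact Or.inl (E₁.mul_mem hcE₁ (hV₁E h'))
      · exact Or.inr (E₂.mul_mem hcE₂ (hV₂E h'))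
  -- a square involution of `T` lies in `D`
  have hsqD : ∀ x ∈ T, x * x = 1 → IsSquareIn L x → x ∈ D := by
    intro x hx hxx hs
    rcases hcov x hx with h | h
    · exact h
    exfalso
    have hd : c₁ * x * (c₁ * x) = 1 := by
      rw [show c₁ * x * (c₁ * x) = c₁ * (x * c₁) * x by group, d.one.data.comm x (d.one.le hx),
        ← mul_assoc, d.c₁_sq, one_mul, hxx]
    rcases hDinv _ h hd with h' | h'
    · exact d.not_square_mul₁ h' (by rwa [← mul_assoc, d.c₁_sq, one_mul])
    · refine d.not_square_mul₂ (V₂.mul_mem d.z_mem₂ h') ?_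
      rwa [d.c_eq, show c₁ * z * (z * (c₁ * x)) = c₁ * (z * z) * (c₁ * x) by group,
        mul_self_of_orderOf d.z_order, mul_one, ← mul_assoc, d.c₁_sq, one_mul]
  -- elements outside `T` normalizing `T`
  have hcross : ∀ {P V : Subgroup G} {c : G}, Half L T P V c →
      (∀ x ∈ T ⊓ centralizer (V : Set G), IsSquareIn L x → x ∈ V) →
      ∀ n ∈ R, n ∉ T → (∀ x ∈ R, x ∈ normalizer (V : Set G) → x ∈ T) →
      ¬ (∀ x ∈ T ⊓ centralizer (V : Set G), n * x * n⁻¹ ∈ T ⊓ centralizer (V : Set G)) := by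
    intro P V c hd hsq n hn hnT hnorm hcl
    refine hnT (hnorm n hn ?_)
    rw [mem_normalizer_iff_map_conj_eq]
    refine eq_of_le_of_card_ge ?_ (by rw [card_map_of_injective (MulAut.conj n).injective])
    rintro _ ⟨v, hv, rfl⟩
    exact hsq _ (hcl v ⟨hd.V_le hv, mem_centralizer_iff.mpr fun u hu => hd.V_comm hu hv⟩)
      ((hd.square_of_mem hv).conj (hRL hn))
  have hswap : ∀ n ∈ R, n ∉ T → n ∈ normalizer (T : Set G) →
      (∀ x ∈ E₁, n * x * n⁻¹ ∈ E₂) ∧ (∀ x ∈ E₂, n * x * n⁻¹ ∈ E₁) := by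
    intro n hn hnT hnN
    have key : ∀ E : Subgroup G, E ≤ T → (∀ x ∈ E, x * x = 1) →
        (∀ x ∈ E, n * x * n⁻¹ ∈ E₁) ∨ (∀ x ∈ E, n * x * n⁻¹ ∈ E₂) := by
      intro E hET hE
      rcases le_or_le_of_subset_union (F := E.map (MulAut.conj n).toMonoidHom) (A := E₁) (B := E₂)
        (by
          rintro _ ⟨x, hx, rfl⟩
          refine hinv _ ((mem_normalizer_iff.mp hnN x).mp (hET hx)) ?_
          show n * x * n⁻¹ * (n * x * n⁻¹) = 1
          rw [show n * x * n⁻¹ * (n * x * n⁻¹) = n * (x * x) * n⁻¹ by group, hE x hx]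
          group) with h | h
      · exact Or.inl fun x hx => h ⟨x, hx, rfl⟩
      · exact Or.inr fun x hx => h ⟨x, hx, rfl⟩
    constructor
    · refine (key E₁ inf_le_left fun x hx => ?_).resolve_left
        (hcross d.one hsq₁ n hn hnT hRV)
      rw [← sq]; exact (Two.elementary_inf d.one).1.2 x hx
    · refine (key E₂ inf_le_left fun x hx => ?_).resolve_right
        (hcross d.two hsq₂ n hn hnT hRV₂)
      rw [← sq]; exact (Two.elementary_inf d.two).1.2 x hx
  set R₁ := R ⊓ normalizer (T : Set G) with hR₁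
  -- `T` has index at most two in `R₁`
  have hidx : ∀ m ∈ R₁, ∀ n ∈ R₁, m ∉ T → n ∉ T → m * n ∈ T := by
    intro m hm n hn hmT hnT
    by_contra hmn
    refine hcross d.one hsq₁ (m * n) (R.mul_mem hm.1 hn.1) hmn hRV fun x hx => ?_
    have := (hswap m hm.1 hmT hm.2).2 _ ((hswap n hn.1 hnT hn.2).1 x hx)
    rw [show m * n * x * (m * n)⁻¹ = m * (n * x * n⁻¹) * m⁻¹ by group]
    exact this
  -- elementary abelian subgroups of order eight of `R₁` lie in `T`
  have hF : ∀ F : Subgroup G, F ≤ R₁ → Cfsg.IsElementaryAbelian 2 F → 4 < Nat.card F → F ≤ T := by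
    intro F hFR hFe hF4
    by_contra hFT
    obtain ⟨f, hf, hfT⟩ := SetLike.not_le_iff_exists.mp hFT
    have hsub : F ⊓ T ≤ zpowers z := by
      intro x hx
      by_cases hx1 : x = 1
      · rw [hx1]; exact one_mem _
      have hxx : x * x = 1 := by rw [← sq]; exact hFe.2 x hx.1
      have hcomm : f * x = x * f := congrArg Subtype.val (hFe.1.is_comm.comm ⟨f, hf⟩ ⟨x, hx.1⟩)
      have hfix : f * x * f⁻¹ = x := by rw [hcomm, mul_inv_cancel_right]
      obtain ⟨h12, h21⟩ := hswap f (hFR hf).1 hfT (hFR hf).2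
      have hboth : x ∈ E₁ ∧ x ∈ E₂ := by
        rcases hinv x hx.2 hxx with h | h
        · exact ⟨h, hfix ▸ h12 x h⟩
        · exact ⟨hfix ▸ h21 x h, h⟩
      have hcentral : ∀ t ∈ T, t * x = x * t := by
        intro t ht
        have hVb : ∀ w ∈ D, Commute w x := by
          intro w hw
          rw [hDdef] at hw
          have hle : V₁ ⊔ zpowers b ≤ centralizer ({x} : Set G) :=
            sup_le (fun v hv => mem_centralizer_singleton_iff.mpr
                (mem_centralizer_iff.mp hboth.1.2 v hv))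
              (zpowers_le.mpr (mem_centralizer_singleton_iff.mpr
                (mem_centralizer_iff.mp hboth.2.2 b hb)))
          exact mem_centralizer_singleton_iff.mp (hle hw)
        rcases hcov t ht with h | h
        · exact (hVb t h).eq
        · rw [show t = c₁ * (c₁ * t) by rw [← mul_assoc, d.c₁_sq, one_mul]]
          exact ((hDcomm x hx.2).mul_left (hVb _ h)).eq
      rcases hzc₁ x hx.2 hcentral with e | e | e | e
      · exact absurd e hx1
      · rw [e]; exact mem_zpowers z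
      · exact absurd (hRc f (hFR hf).1 (e ▸ hcomm)) hfT
      · exact absurd (hRc₂ f (hFR hf).1 (e ▸ hcomm)) hfT
    have h2 := Subgroup.card_le_of_le hsub
    rw [Nat.card_zpowers, d.z_order] at h2
    have hi : ((F ⊓ T).subgroupOf F).index = 2 := by
      refine index_eq_two_iff.mpr ⟨⟨f, hf⟩, fun a => ?_⟩
      simp only [mem_subgroupOf, Subgroup.coe_mul, mem_inf]
      by_cases ha : (a : G) ∈ T
      · refine Or.inr ⟨⟨a.2, ha⟩, fun h => hfT ?_⟩
        simpa using T.mul_mem (T.inv_mem ha) h.2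
      · exact Or.inl ⟨⟨F.mul_mem a.2 hf, hidx _ (hFR a.2) _ (hFR hf) ha hfT⟩, fun h => ha h.2⟩
    have h3 := card_mul_index ((F ⊓ T).subgroupOf F)
    rw [hi, Nat.card_congr (subgroupOfEquivOfLe (inf_le_left : F ⊓ T ≤ F)).toEquiv] at h3
    omega
  -- `R` normalizes `T`
  have hRT : R ≤ normalizer (T : Set G) := by
    have heq : R₁ = R := by
      by_contra hne
      have hlt : R₁ < R := lt_of_le_of_ne inf_le_left hne
      obtain ⟨m, hm, hmR₁⟩ := SetLike.exists_of_lt
        (CfsgLib.Small.lt_inf_normalizer_of_pGroup hRp hlt)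
      refine hmR₁ ⟨hm.1, ?_⟩
      have hmap : ∀ E : Subgroup G, E ≤ T → Cfsg.IsElementaryAbelian 2 E → 4 < Nat.card E →
          ∀ x ∈ E, m * x * m⁻¹ ∈ T := by
        intro E hET hE hE4 x hx
        refine hF (E.map (MulAut.conj m).toMonoidHom) ?_
          (CfsgLib.Transitivity.isElementaryAbelian_map hE _)
          (by rwa [card_map_of_injective (MulAut.conj m).injective]) ⟨x, hx, rfl⟩
        rintro _ ⟨y, hy, rfl⟩
        exact (mem_normalizer_iff.mp hm.2 y).mp ⟨hTR (hET hy), le_normalizer (hET hy)⟩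
      have h1 := hmap E₁ inf_le_left (Two.elementary_inf d.one).1 (Two.elementary_inf d.one).2
      have h2 := hmap E₂ inf_le_left (Two.elementary_inf d.two).1 (Two.elementary_inf d.two).2
      refine mem_normalizer_iff_map_conj_eq.mpr (eq_of_le_of_card_ge ?_
        (by rw [card_map_of_injective (MulAut.conj m).injective]))
      have hDm : ∀ w ∈ D, m * w * m⁻¹ ∈ T := by
        intro w hw
        rw [hDdef] at hw
        have hle : V₁ ⊔ zpowers b ≤ T.comap (MulAut.conj m).toMonoidHom :=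
          sup_le (fun v hv => h1 v (hV₁E hv)) (zpowers_le.mpr (h2 b (hV₂E hb)))
        exact hle hw
      rintro _ ⟨t, ht, rfl⟩
      rcases hcov t ht with h | h
      · exact hDm t h
      · have hc : m * c₁ * m⁻¹ ∈ T := h1 c₁ ⟨d.one.mem_T, mem_centralizer_iff.mpr fun v hv =>
          d.one.data.comm v (d.one.data.le hv)⟩
        have := T.mul_mem hc (hDm _ h)
        rw [show m * c₁ * m⁻¹ * (m * (c₁ * t) * m⁻¹) = m * (c₁ * c₁) * t * m⁻¹ by group,
          d.c₁_sq, mul_one] at this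
        exact this
    exact heq.ge.trans inf_le_right
  have hR₁eq : ∀ x ∈ R, x ∈ R₁ := fun x hx => ⟨hx, hRT hx⟩
  -- the conjugates of `c₁` in `R` lie in `T`
  have hconjT : ∀ g ∈ H, g * c₁ * g⁻¹ ∈ R → g * c₁ * g⁻¹ ∈ T := by
    intro g hg hw
    by_contra hwT
    set w := g * c₁ * g⁻¹ with hwdef
    have hwo : orderOf w = 2 := (orderOf_conj g c₁).trans d.one.data.orderOf_eq
    -- `Ω₁Z(Q) = ⟨z⟩`
    have hzc : ∀ x ∈ zc Q, x = 1 ∨ x = z := by
      intro x hx
      have hxQ : x ∈ (Q : Subgroup G) := (zc_le Q hx).1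
      have hxT : x ∈ T := d.one.eq_of_le (A := (Q : Subgroup G) ⊓ P₁)
        (Q.isPGroup'.to_le inf_le_left) inf_le_right (le_inf hTQ d.one.le)
        ⟨hxQ, d.one.mem_centralizer_c (hZL Q hx) (zc_comm Q hx (hTQ d.one.mem_T)).symm⟩
      rcases hzc₁ x hxT (fun t ht => zc_comm Q hx (hTQ ht)) with e | e | e | e
      · exact Or.inl e
      · exact Or.inr e
      · exact absurd (hRc w hw (e ▸ zc_comm Q hx hw.1)) hwT
      · exact absurd (hRc₂ w hw (e ▸ zc_comm Q hx hw.1)) hwT
    obtain ⟨x, -, hxc, hxo⟩ := CfsgLib.Small.exists_central_invol_mem (G := ↥(Q : Subgroup G))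
      Q.isPGroup' ⊤ (fun e => ne_one_of_orderOf hwo (by
        have : (⟨w, hw.1⟩ : ↥(Q : Subgroup G)) ∈ (⊥ : Subgroup ↥(Q : Subgroup G)) := e ▸ mem_top _
        exact congrArg Subtype.val (mem_bot.mp this)))
    have hxz : (x : G) = z := by
      have hxo' : orderOf (x : G) = 2 := by rwa [Subgroup.orderOf_coe]
      exact (hzc x (mem_zc Q x.2 (fun s hs => congrArg Subtype.val
        (mem_center_iff.mp hxc ⟨s, hs⟩)) (mul_self_of_orderOf hxo'))).resolve_left
        (ne_one_of_orderOf hxo')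
    have hzQ : ∀ s ∈ (Q : Subgroup G), s * z = z * s := fun s hs =>
      hxz ▸ congrArg Subtype.val (mem_center_iff.mp hxc ⟨s, hs⟩)
    have hCz : centralizer ({z} : Set G) ≤ normalizer ((Q : Subgroup G) : Set G) := by
      intro y hy
      refine hZ Q (mem_centralizer_iff.mpr fun u hu => ?_)
      rcases hzc u hu with rfl | rfl
      · rw [one_mul, mul_one]
      · exact (mem_centralizer_singleton_iff.mp hy).symm
    have hzR : z ∈ R := hTR (d.one.V_le d.z_mem)
    have hzw : z * w = w * z := (hzQ w hw.1).symm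
    have hinvC : ∀ q ∈ R, orderOf q = 2 → q * w = w * q → q = z ∨ q = w ∨ q = z * w := by
      intro q hq hqo hqw
      by_contra hcon
      push Not at hcon
      obtain ⟨F, hFe, hF4, hFR, -, hwF, -⟩ := exists_elementary_eight (K := R) d.z_order hwo hqo
        (fun e => hwT (e ▸ d.one.V_le d.z_mem)) hzR hw hq hzw (hzQ q hq.1).symm hqw.symm
        hcon.1 hcon.2.1 hcon.2.2
      exact hwT (hF F (fun y hy => hR₁eq y (hFR hy)) hFe hF4 hwF)
    -- squares of `R` lie in `T`
    have hsqR : ∀ y ∈ R, y * y ∈ T := fun y hy => by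
      by_cases h : y ∈ T
      · exact T.mul_mem h h
      · exact hidx y (hR₁eq y hy) y (hR₁eq y hy) h h
    set C := R ⊓ centralizer ({w} : Set G) with hC
    have hexp : ∀ y ∈ C, y * y = 1 := by
      intro x hx
      by_contra hxx
      obtain ⟨k, hk⟩ := IsPGroup.iff_orderOf.1 (hRp.to_le (inf_le_left : C ≤ _)) ⟨x, hx⟩
      rw [← Subgroup.orderOf_coe] at hk
      simp only at hk
      obtain ⟨j, rfl⟩ : ∃ j, k = j + 2 := ⟨k - 2, by
        by_contra hlt2
        apply hxx
        rw [← sq, ← orderOf_dvd_iff_pow_eq_one, hk]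
        exact (Nat.pow_dvd_pow 2 (show k ≤ 1 by omega)).trans (dvd_of_eq (pow_one 2))⟩
      set y := x ^ 2 ^ j with hy
      have hyC : y ∈ C := C.pow_mem hx _
      have hy2 : orderOf (y * y) = 2 := by
        rw [← sq, hy, ← pow_mul, ← pow_succ, orderOf_pow_of_dvd (pow_ne_zero _ two_ne_zero)
          (hk ▸ Nat.pow_dvd_pow 2 (by omega)), hk, Nat.pow_div (by omega) two_pos,
          show j + 2 - (j + 1) = 1 by omega, pow_one]
      have hyy := hinvC _ (R.mul_mem hyC.1 hyC.1) hy2
        (mem_centralizer_singleton_iff.mp (C.mul_mem hyC hyC).2)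
      have hyz : y * y = z := by
        rcases hyy with e | e | e
        · exact e
        · exact absurd (e ▸ hsqR y hyC.1) hwT
        · refine absurd ?_ hwT
          have := T.mul_mem (T.inv_mem (d.one.V_le d.z_mem)) (e ▸ hsqR y hyC.1)
          rwa [inv_mul_cancel_left] at this
      -- move `C` into `P₁`
      have hT₁ : ∃ Sy : Sylow 2 ↥P₁, (Sy : Subgroup ↥P₁) = T.subgroupOf P₁ := by
        refine ⟨Sylow.ofCard _ ?_, Sylow.coe_ofCard _ _⟩
        rw [Nat.card_congr (subgroupOfEquivOfLe d.one.le).toEquiv, d.one.card, d.one.data.card]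
        rw [Nat.factorization_def _ Nat.prime_two]
        have : padicValNat 2 48 = 4 := by
          rw [show (48 : ℕ) = 2 ^ 4 * 3 by norm_num, padicValNat.mul (by norm_num) (by norm_num),
            padicValNat.prime_pow, padicValNat.eq_zero_of_not_dvd (show ¬ 2 ∣ 3 by norm_num)]
        rw [this]
        norm_num
      obtain ⟨Sy, hSy⟩ := hT₁
      have hCP : C.map (MulAut.conj g⁻¹).toMonoidHom ≤ P₁ := by
        rintro _ ⟨q, hq, rfl⟩
        have hgq : g⁻¹ * q * g ∈ L :=
          L.mul_mem (L.mul_mem (L.inv_mem (hHL hg)) (hRL hq.1)) (hHL hg)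
        refine (show g⁻¹ * q * g⁻¹⁻¹ ∈ P₁ from ?_)
        rw [inv_inv]
        refine d.one.mem_centralizer_c hgq ?_
        have h1 := mem_centralizer_singleton_iff.mp (conj_mem_centralizer (g := g⁻¹) hq.2)
        rw [hwdef, show g⁻¹ * (g * c₁ * g⁻¹) * g⁻¹⁻¹ = c₁ by group, inv_inv] at h1
        exact h1
      obtain ⟨p, hp, hpT⟩ := exists_conj_mem_sylow Sy
        ((hRp.to_le (inf_le_left : C ≤ R)).map _) hCP
      have ht : p * (g⁻¹ * y * g) * p⁻¹ ∈ T := by
        obtain ⟨q, hq, hq'⟩ := hpT (g⁻¹ * y * g) ⟨y, hyC, by simp [mul_assoc]⟩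
        rw [← hq']
        rw [hSy] at hq
        exact hq
      set k := g * p⁻¹ with hkdef
      have hkz : k * z * k⁻¹ = z := by
        rcases hsqT _ ht _ rfl with e | e
        · exfalso
          refine ne_one_of_orderOf d.z_order ?_
          rw [show p * (g⁻¹ * y * g) * p⁻¹ * (p * (g⁻¹ * y * g) * p⁻¹) =
            (p * g⁻¹) * (y * y) * (p * g⁻¹)⁻¹ by group, hyz, mul_inv_eq_one] at e
          exact mul_eq_left.mp e
        · rw [show p * (g⁻¹ * y * g) * p⁻¹ * (p * (g⁻¹ * y * g) * p⁻¹) =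
            (p * g⁻¹) * (y * y) * (p * g⁻¹)⁻¹ by group, hyz] at e
          conv_lhs => rw [← e]
          rw [hkdef]; group
      have hkQ : k ∈ normalizer ((Q : Subgroup G) : Set G) :=
        hCz (mem_centralizer_singleton_iff.mpr (mul_inv_eq_iff_eq_mul.mp hkz))
      have hkw : k * c₁ * k⁻¹ = w := by
        rw [hkdef, hwdef]
        calc g * p⁻¹ * c₁ * (g * p⁻¹)⁻¹ = g * (p⁻¹ * c₁) * p * g⁻¹ := by group
          _ = g * (c₁ * p⁻¹) * p * g⁻¹ := by rw [d.one.data.comm _ (P₁.inv_mem hp)]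
          _ = g * c₁ * g⁻¹ := by group
      refine hwT ?_
      have hcE : c₁ ∈ E₁ := ⟨d.one.mem_T, mem_centralizer_iff.mpr fun v hv =>
        d.one.data.comm v (d.one.data.le hv)⟩
      refine hF (E₁.map (MulAut.conj k).toMonoidHom) ?_
        (CfsgLib.Transitivity.isElementaryAbelian_map (Two.elementary_inf d.one).1 _)
        (by rw [card_map_of_injective (MulAut.conj k).injective]; exact (Two.elementary_inf d.one).2)
        ⟨c₁, hcE, hkw⟩
      rintro _ ⟨q, hq, rfl⟩
      exact hR₁eq _ ⟨(mem_normalizer_iff.mp hkQ q).mp (hTQ hq.1),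
        (inferInstance : H.Normal).conj_mem q (hTH hq.1) k⟩
    -- so `C` has order four and `R` is dihedral or semidihedral
    have hC4 : Nat.card C = 4 := by
      have hEq : C = CfsgLib.Classification.fourSpan z w (mul_self_of_orderOf d.z_order)
          (mul_self_of_orderOf hwo) hzw := by
        refine le_antisymm (fun q hq => CfsgLib.Classification.mem_fourSpan.mpr ?_) fun q hq => ?_
        · by_cases hq1 : q = 1
          · exact Or.inl hq1
          · exact Or.inr (hinvC q hq.1 (orderOf_eq_two (hexp q hq) hq1)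
              (mem_centralizer_singleton_iff.mp hq.2))
        · have hzC : z ∈ C := ⟨hzR, mem_centralizer_singleton_iff.mpr hzw⟩
          have hwC : w ∈ C := ⟨hw, mem_centralizer_singleton_iff.mpr rfl⟩
          rcases CfsgLib.Classification.mem_fourSpan.mp hq with rfl | rfl | rfl | rfl
          exacts [C.one_mem, hzC, hwC, C.mul_mem hzC hwC]
      rw [hEq]
      exact (CfsgLib.Classification.isKleinFour_fourSpan _ _ hzw (ne_one_of_orderOf d.z_order)
        (ne_one_of_orderOf hwo) (fun e => hwT (e ▸ d.one.V_le d.z_mem))).card_four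
    have hmap : (centralizer ({(⟨w, hw⟩ : R)} : Set R)).map R.subtype = C := by
      ext q
      constructor
      · rintro ⟨a, ha, rfl⟩
        exact ⟨a.2, mem_centralizer_singleton_iff.mpr
          (congrArg Subtype.val (mem_centralizer_singleton_iff.mp ha))⟩
      · rintro ⟨hq1, hq2⟩
        exact ⟨⟨q, hq1⟩, mem_centralizer_singleton_iff.mpr
          (Subtype.ext (mem_centralizer_singleton_iff.mp hq2)), rfl⟩
    rw [← hmap, card_map_of_injective (subtype_injective _)] at hC4
    have hbig := (Two.elementary_inf d.one).2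
    rcases CfsgLib.Inv53.dihedral_quasi_or_four hRp _ (by rw [← Subgroup.orderOf_coe]; exact hwo)
      hC4 with ⟨n, ⟨e⟩⟩ | hq | hcard
    · have := card_le_four_of_cyclicHalf (hasCyclicHalf_of_dihedral e)
        ((inf_le_left : E₁ ≤ T).trans hTR) (Two.elementary_inf d.one).1
      omega
    · have := card_le_four_of_cyclicHalf (hasCyclicHalf_of_quasiDihedral hq)
        ((inf_le_left : E₁ ≤ T).trans hTR) (Two.elementary_inf d.one).1
      omega
    · have := Subgroup.card_le_of_le ((inf_le_left : E₁ ≤ T).trans hTR)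
      rw [hcard] at this
      omega
  -- `R` normalizes `D`
  have hDn : ∀ n ∈ R, ∀ x ∈ D, n * x * n⁻¹ ∈ D := by
    intro n hn x hx
    have hone : ∀ v, v ∈ V₁ ∨ v = b → n * v * n⁻¹ ∈ D := by
      intro v hv
      have hvT : v ∈ T := hv.elim (fun h => d.one.V_le h) (fun h => h ▸ hbT)
      have hvv : v * v = 1 := hv.elim
        (fun h => CfsgLib.Classification.sq_eq_one_of_isKleinFour d.one.data.four h)
        (fun h => h ▸ CfsgLib.Classification.sq_eq_one_of_isKleinFour d.two.data.four hb)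
      have hvs : IsSquareIn L v := hv.elim (fun h => d.one.square_of_mem h)
        (fun h => h ▸ d.two.square_of_mem hb)
      refine hsqD _ ((mem_normalizer_iff.mp (hRT hn) v).mp hvT) ?_ (hvs.conj (hRL hn))
      rw [show n * v * n⁻¹ * (n * v * n⁻¹) = n * (v * v) * n⁻¹ by group, hvv]
      group
    have hle : D ≤ D.comap (MulAut.conj n).toMonoidHom := by
      conv_lhs => rw [hDdef]
      exact sup_le (fun v hv => hone v (Or.inl hv)) (zpowers_le.mpr (hone b (Or.inr rfl)))
    exact hle hx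
  -- the transfer in `H`
  have hcardR : (D.subgroupOf R).index = 2 ∨ (D.subgroupOf R).index = 4 := by
    have hDT2 : D.relIndex T = 2 := by
      refine index_eq_two_iff.mpr ⟨⟨c₁, d.one.mem_T⟩, fun a => ?_⟩
      simp only [mem_subgroupOf, Subgroup.coe_mul]
      rcases hcov a a.2 with h | h
      · refine Or.inr ⟨h, fun h' => hcD ?_⟩
        simpa using D.mul_mem (D.inv_mem h) h'
      · rw [show (a : G) * c₁ = c₁ * a from d.one.data.comm a (d.one.le a.2)]
        refine Or.inl ⟨h, fun h' => hcD ?_⟩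
        simpa using D.mul_mem h (D.inv_mem h')
    have hTR2 : T.relIndex R = 1 ∨ T.relIndex R = 2 := by
      by_cases hle : R ≤ T
      · exact Or.inl (relIndex_eq_one.mpr hle)
      obtain ⟨n, hn, hnT⟩ := SetLike.not_le_iff_exists.mp hle
      refine Or.inr (index_eq_two_iff.mpr ⟨⟨n, hn⟩, fun a => ?_⟩)
      simp only [mem_subgroupOf, Subgroup.coe_mul]
      by_cases ha : (a : G) ∈ T
      · exact Or.inr ⟨ha, fun h => hnT (by simpa using T.mul_mem (T.inv_mem ha) h)⟩
      · exact Or.inl ⟨hidx _ (hR₁eq _ a.2) _ (hR₁eq _ hn) ha hnT, ha⟩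
    have := relIndex_mul_relIndex D T R hDT hTR
    rw [hDT2] at this
    show D.relIndex R = 2 ∨ D.relIndex R = 4
    omega
  haveI hDnorm : (D.subgroupOf R).Normal :=
    ⟨fun x hx n => mem_subgroupOf.mpr (hDn n n.2 x (mem_subgroupOf.mp hx))⟩
  have hpA : IsPGroup 2 (↥R ⧸ D.subgroupOf R) := hRp.to_quotient _
  have hcommA : ∀ u v : ↥R ⧸ D.subgroupOf R, u * v = v * u := by
    rcases hcardR with h | h
    · haveI : IsCyclic (↥R ⧸ D.subgroupOf R) := isCyclic_of_prime_card (p := 2) h
      intro u v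
      exact IsCyclic.commGroup.mul_comm u v
    · exact IsPGroup.commutative_of_card_eq_prime_sq (p := 2) h
  letI : CommGroup (↥R ⧸ D.subgroupOf R) :=
    { (inferInstance : Group (↥R ⧸ D.subgroupOf R)) with mul_comm := hcommA }
  -- a Sylow subgroup of `H`
  have hsyl : IsPGroup 2 ((Q : Subgroup G).subgroupOf H) := Q.isPGroup'.comap_subtype
  set RH : Sylow 2 H := hsyl.toSylow (CfsgLib.Transfer.not_dvd_relIndex_of_normal Q H) with hRH
  let toR : ↥(RH : Subgroup H) →* ↥R :=
    { toFun := fun x => ⟨((x : H) : G), x.2, (x : H).2⟩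
      map_one' := rfl
      map_mul' := fun _ _ => rfl }
  refine false_of_transfer hperf RH ((QuotientGroup.mk' (D.subgroupOf R)).comp toR) hpA
    (c := ⟨c₁, hc₁H⟩) (by rw [← Subgroup.orderOf_coe]; exact d.one.data.orderOf_eq)
    (a := QuotientGroup.mk' (D.subgroupOf R) ⟨c₁, hTR d.one.mem_T⟩) ?_ ?_
  · intro h
    exact hcD (mem_subgroupOf.mp ((QuotientGroup.eq_one_iff _).mp h))
  · intro g hg
    set w : G := (g : G)⁻¹ * c₁ * g with hw
    have hwR : w ∈ R := ⟨hg, H.mul_mem (H.mul_mem (H.inv_mem g.2) hc₁H) g.2⟩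
    have hwT : w ∈ T := by
      have := hconjT (g : G)⁻¹ (H.inv_mem g.2) (by rwa [inv_inv])
      rwa [inv_inv] at this
    have hwD : w ∉ D := by
      intro h
      have hwo : orderOf w = 2 := by
        rw [hw]
        have := orderOf_conj (g : G)⁻¹ c₁
        rw [inv_inv] at this
        exact this.trans d.one.data.orderOf_eq
      have hsqw : IsSquareIn L w := by
        rcases hDinv w h (mul_self_of_orderOf hwo) with h' | h'
        · exact d.one.square_of_mem h'
        · exact d.two.square_of_mem h'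
      have := hsqw.conj (hHL g.2)
      rw [hw, show (g : G) * ((g : G)⁻¹ * c₁ * g) * (g : G)⁻¹ = c₁ by group] at this
      exact d.one.c_not_square this
    refine (QuotientGroup.eq).mpr (mem_subgroupOf.mpr ?_)
    show w⁻¹ * c₁ ∈ D
    have h1 : c₁ * w ∈ D := (hcov w hwT).resolve_left hwD
    have h2 : c₁ * w = w * c₁ := (d.one.data.comm w (d.one.le hwT)).symm
    rw [h2] at h1
    have h3 := D.inv_mem h1
    rw [mul_inv_rev, inv_eq_of_mul_eq_one_right d.c₁_sq] at h3
    have h4 : w⁻¹ * c₁ = c₁ * w⁻¹ := (Commute.inv_left (show Commute w c₁ from h2.symm)).eq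
    rwa [h4]

end CfsgLib.ZCGroup
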